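import Mathlib
import Cfsg.Agent.H172.SIBase
import Cfsg.Agent.H172.SINum
import Cfsg.Agent.H172.SIComm
import Cfsg.Agent.H599.IdxG2
import Cfsg.Agent.S1054
import Cfsg.Agent.S1055
import Cfsg.Agent.S2121
import Cfsg.Agent.S2122
import Cfsg.Agent.H934.HeisE6_m3
import Cfsg.Agent.H934.HeisTwE6
import Cfsg.Agent.S1066
import Cfsg.Agent.S1067
import Cfsg.Agent.S1070
import Cfsg.Agent.S1071
import Cfsg.Agent.S2129
import Cfsg.Agent.S2130
import Cfsg.Agent.S1100
import Cfsg.Agent.S0313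
import Cfsg.Agent.H190.Chev
import Cfsg.Agent.S1039
import Cfsg.Agent.S1093
import Cfsg.Agent.FastGrp
import Cfsg.Agent.Prune
set_option linter.all false

section
prune_inst 0x7f00000000000000000000000000000000000000000000000000000000000000000000000000000000000000000000000000000000000000000000000000000000000000000000000000000000000000003fffffffffffffffffffffffffffbeffbdffffffff

-- part: H172/SIChev
section
set_option linter.all false
open scoped Cfsg.Agent.FastGrp

-- part: H172/SIMain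
section
/-!
helper172, for S5762: exceptional untwisted groups in cross characteristic (all but `E₆`, `p = 5 ∣ q - 1`).
-/

set_option autoImplicit false

namespace Cfsg.Agent.H172.SI

open Cfsg.Lie Cfsg.Agent.H903.SylMeet

section vb

variable {p : ℕ} [hp : Fact p.Prime]

/-- the valuation bound for `Aut T` -/
theorem vbound (hp2 : Odd p) {T : Type*} [Group T] [Finite T] {q j N : ℕ} (hq : ¬ p ∣ q) (hq2 : 2 ≤ q)
    {ds : List ℕ} (hds : ∀ k ∈ ds, 0 < k) (hcard : Nat.card T ∣ (q ^ p ^ j) ^ N * pr (q ^ p ^ j) ds)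
    (hout : padicValNat p (Nat.card (Cfsg.Out T)) = j) :
    p ^ (padicValNat p (Nat.card T) + padicValNat p (Nat.card (Cfsg.Out T))) ≤
      p ^ j * ((p ^ j * (q + 1) ^ Nat.totient (orderOf (q : ZMod p))) ^ nm (orderOf (q : ZMod p)) ds *
        p ^ wt p (orderOf (q : ZMod p)) ds) := by
  have hqj : 2 ≤ q ^ p ^ j := hq2.trans (Nat.le_self_pow (pow_pos hp.out.pos _).ne' _)
  have h0 : pr (q ^ p ^ j) ds ≠ 0 := pr_ne_zero hqj hds
  have h1 : (q ^ p ^ j) ^ N ≠ 0 := pow_ne_zero _ (by omega)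
  have h2 : padicValNat p (Nat.card T) ≤ padicValNat p ((q ^ p ^ j) ^ N * pr (q ^ p ^ j) ds) := by
    rw [← Nat.factorization_def _ hp.out, ← Nat.factorization_def _ hp.out]
    exact (Nat.factorization_le_iff_dvd Nat.card_pos.ne' (mul_ne_zero h1 h0)).2 hcard p
  have h3 : padicValNat p ((q ^ p ^ j) ^ N) = 0 := by
    apply padicValNat.eq_zero_of_not_dvd
    intro h
    exact hq (hp.out.dvd_of_dvd_pow (hp.out.dvd_of_dvd_pow h))
  rw [padicValNat.mul h1 h0, h3, zero_add] at h2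
  rw [hout, add_comm, pow_add]
  exact Nat.mul_le_mul_left _ ((Nat.pow_le_pow_right hp.out.pos h2).trans (pow_v_pr_le hp2 hq hq2 ds hds))

/-- decomposition of the order of a field -/
theorem exists_split (F : Type*) [Field F] [Fintype F] (hpF : ¬ p ∣ Fintype.card F) :
    ∃ (ℓ f q j f' : ℕ), ℓ.Prime ∧ CharP F ℓ ∧ f = p ^ j * f' ∧ ¬ p ∣ f' ∧ 0 < f' ∧ Fintype.card F = ℓ ^ f ∧
      q = ℓ ^ f' ∧ Fintype.card F = q ^ p ^ j ∧ ¬ p ∣ q ∧ 2 ≤ q := by
  obtain ⟨ℓ, hℓ⟩ := CharP.exists F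
  obtain ⟨n, hlp, hn⟩ := FiniteField.card F ℓ
  obtain ⟨j, f', hf', hnf⟩ := Nat.exists_eq_pow_mul_and_not_dvd n.pos.ne' p hp.out.ne_one
  have hf0 : 0 < f' := by
    rcases Nat.eq_zero_or_pos f' with h | h
    · exact absurd (h ▸ dvd_zero p) hf'
    · exact h
  have hq : Fintype.card F = (ℓ ^ f') ^ p ^ j := by
    rw [hn, ← pow_mul, hnf, mul_comm]
  refine ⟨ℓ, n, ℓ ^ f', j, f', hlp, hℓ, hnf, hf', hf0, hn, rfl, hq, ?_, ?_⟩
  · intro h
    apply hpF
    rw [hq]
    exact h.trans (dvd_pow_self _ (pow_pos hp.out.pos _).ne')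
  · calc 2 ≤ ℓ := hlp.two_le
      _ ≤ ℓ ^ f' := Nat.le_self_pow hf0.ne' _

theorem v_mul_coprime {c f j f' : ℕ} (hc : ¬ p ∣ c) (hf : f = p ^ j * f') (hf' : ¬ p ∣ f') :
    padicValNat p (c * f) = j := by
  have h1 : c ≠ 0 := by rintro rfl; exact hc (dvd_zero p)
  have h2 : f' ≠ 0 := by rintro rfl; exact hf' (dvd_zero p)
  have h3 : p ^ j ≠ 0 := (pow_pos hp.out.pos _).ne'
  rw [hf, padicValNat.mul h1 (mul_ne_zero h3 h2), padicValNat.mul h3 h2, padicValNat.prime_pow,
    padicValNat.eq_zero_of_not_dvd hc, padicValNat.eq_zero_of_not_dvd hf']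
  omega

theorem le_of_order_le_two {q : ℕ} (hq : ¬ p ∣ q) (hq2 : 2 ≤ q) (h : orderOf (q : ZMod p) ≤ 2) : p ≤ q + 1 := by
  have h0 := order_pos hq
  have h1 : p ∣ q ^ 2 - 1 := by
    rw [dvd_iff_order (by omega)]
    interval_cases orderOf (q : ZMod p)
    · exact one_dvd _
    · exact dvd_rfl
  have h2 : q ^ 2 - 1 = (q + 1) * (q - 1) := by
    have := Nat.sq_sub_sq q 1
    simpa only [_root_.one_pow] using this
  rw [h2] at h1
  rcases (Nat.Prime.dvd_mul hp.out).1 h1 with h3 | h3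
  · exact Nat.le_of_dvd (by omega) h3
  · have := Nat.le_of_dvd (by omega) h3
    omega

theorem odd_of_five (hp5 : 5 ≤ p) : Odd p := hp.out.odd_of_ne_two (by omega)

theorem not_dvd_of_lt {c : ℕ} (hc : 0 < c) (h : c < p) : ¬ p ∣ c := fun hd => by
  have := Nat.le_of_dvd hc hd
  omega

/-- `B` in the case of a nontrivial field part -/
theorem bound_le {s q e l W n t : ℕ} (hs : 1 ≤ s) (hn : n ≤ l) (hφ : Nat.totient e * n ≤ l) (ht : t ≤ W) :
    s * ((s * (q + 1) ^ Nat.totient e) ^ n * t) ≤ W * s ^ (l + 1) * (q + 1) ^ l := by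
  have h1 : (s * (q + 1) ^ Nat.totient e) ^ n ≤ s ^ l * (q + 1) ^ l := by
    rw [mul_pow, ← pow_mul]
    exact Nat.mul_le_mul (Nat.pow_le_pow_right hs hn) (Nat.pow_le_pow_right (by omega) hφ)
  calc s * ((s * (q + 1) ^ Nat.totient e) ^ n * t) ≤ s * ((s ^ l * (q + 1) ^ l) * W) :=
        Nat.mul_le_mul_left _ (Nat.mul_le_mul h1 ht)
    _ = _ := by ring

/-- `B` with separate exponents -/
theorem bound_le' {s q e a b W n t : ℕ} (hs : 1 ≤ s) (hn : n ≤ a) (hφ : Nat.totient e * n ≤ b) (ht : t ≤ W) :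
    s * ((s * (q + 1) ^ Nat.totient e) ^ n * t) ≤ W * s ^ (a + 1) * (q + 1) ^ b := by
  have h1 : (s * (q + 1) ^ Nat.totient e) ^ n ≤ s ^ a * (q + 1) ^ b := by
    rw [mul_pow, ← pow_mul]
    exact Nat.mul_le_mul (Nat.pow_le_pow_right hs hn) (Nat.pow_le_pow_right (by omega) hφ)
  calc s * ((s * (q + 1) ^ Nat.totient e) ^ n * t) ≤ s * ((s ^ a * (q + 1) ^ b) * W) :=
        Nat.mul_le_mul_left _ (Nat.mul_le_mul h1 ht)
    _ = _ := by ring

end vb

/-- bounds for all `e` from a finite check -/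
theorem nm_check {ds : List ℕ} {M : ℕ} (hM : ∀ k ∈ ds, 0 < k ∧ k ≤ M) (Q : ℕ → ℕ → Prop) (h0 : ∀ e, Q e 0)
    (h : ∀ e ∈ Finset.Icc 1 M, Q e (nm e ds)) (e : ℕ) (he : 0 < e) : Q e (nm e ds) := by
  rcases Nat.lt_or_ge M e with h1 | h1
  · have : nm e ds = 0 := by
      rw [nm, List.countP_eq_zero]
      intro k hk hd
      have h2 := Nat.le_of_dvd (hM k hk).1 (by simpa using hd)
      have h3 := (hM k hk).2
      omega
    rw [this]
    exact h0 e
  · exact h e (Finset.mem_Icc.2 ⟨he, h1⟩)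

end Cfsg.Agent.H172.SI
end

-- part: H172/SIChev
section
/-!
helper172, for S5762: `G₂`, `F₄`, `E₇`, `E₈` in cross characteristic, and `E₆` except `p = 5 ∣ q - 1`.
-/

set_option autoImplicit false

namespace Cfsg.Agent.H172.SI

open Cfsg.Lie Cfsg.Agent.H903.SylMeet

variable {p : ℕ} [hp : Fact p.Prime]

theorem not_dvd_of_v {n : ℕ} (hn : n ≠ 0) (h : padicValNat p n = 0) : ¬ p ∣ n := by
  intro hd
  have := one_le_padicValNat_of_dvd hn hd
  omega

theorem five_le_pow (hp5 : 5 ≤ p) {j : ℕ} (hj : j ≠ 0) : 5 ≤ p ^ j := hp5.trans (Nat.le_self_pow hj _)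

theorem wt_zero_of {e : ℕ} : ∀ {ds : List ℕ}, (∀ k ∈ ds, ¬ p ∣ k) → wt p e ds = 0 := by
  intro ds
  induction ds with
  | nil => intro _; rfl
  | cons k ds ih =>
    intro h
    rw [wt, ih fun k hk => h k (by simp [hk]), padicValNat.eq_zero_of_not_dvd (h k (by simp))]
    simp

theorem ndvd_of {ds : List ℕ} (P : List ℕ) (hP : ∀ k ∈ ds, ∀ r ∈ Finset.range (k + 1), r.Prime → r ∣ k → r ∈ P)
    (h : p ∉ P) : ∀ k ∈ ds, 0 < k → ¬ p ∣ k := by
  intro k hk hk0 hd
  exact h (hP k hk p (Finset.mem_range.2 (Nat.lt_succ_of_le (Nat.le_of_dvd hk0 hd))) hp.out hd)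

theorem hout1 {D : ChevalleyDatum} {F : Type} [Field F] [Fintype F] {c f j f' : ℕ}
    (hc : ¬ p ∣ c) (hf : f = p ^ j * f') (hf' : ¬ p ∣ f') (h : Nat.card (Cfsg.Out ↥(D.group F)) = c * f) :
    padicValNat p (Nat.card (Cfsg.Out ↥(D.group F))) = j := by
  rw [h]
  exact v_mul_coprime hc hf hf'

theorem card_dvd {D : ChevalleyDatum} {d : ℕ → ℕ} {N : ℕ} {ds : List ℕ} (h : Deg D d N ds) {F : Type} [Field F]
    [Fintype F] {q : ℕ} (hq : Fintype.card F = q) : Nat.card ↥(D.group F) ∣ q ^ N * pr q ds := by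
  subst hq
  have := h.card (F := F)
  exact ⟨d (Fintype.card F), by rw [mul_comm (Nat.card _), this]; rfl⟩

theorem order_dvd {q : ℕ} (hq : ¬ p ∣ q) : orderOf (q : ZMod p) ∣ p - 1 :=
  ZMod.orderOf_dvd_card_sub_one (natCast_ne_zero hq)

theorem cross_G2 {F : Type} [Field F] [Fintype F] (hF : 3 ≤ Fintype.card F) (hp5 : 5 ≤ p)
    (hpF : ¬ p ∣ Fintype.card F) : Meet p ↥(chevG2.group F) := by
  classical
  have : Finite (GL chevG2.Idx F) := inferInstance
  obtain ⟨hs, hT⟩ := Cfsg.Agent.S1055.result (F := F) (by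
    by_contra hcon
    push Not at hcon
    have h5 : (Finset.univ : Finset F) ⊆ {0, 1} := fun a _ => by
      by_cases h6 : a = 0
      · simp only [h6, _root_.Finset.mem_insert, _root_.Finset.mem_singleton, _root_.zero_ne_one, _root_.or_false]
      · simp only [hcon a h6, _root_.Finset.mem_insert, _root_.one_ne_zero, _root_.Finset.mem_singleton, _root_.or_true]
    have h4 := Finset.card_le_card h5
    rw [Finset.card_univ] at h4
    have h6 : ({0, 1} : Finset F).card ≤ 2 := Finset.card_le_two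
    omega)
  obtain ⟨ℓ, f, q, j, f', hℓ, hch, hf, hf', hf0, hFc, hqd, hFq, hpq, hq2⟩ := exists_split (p := p) F hpF
  have : Fact ℓ.Prime := ⟨hℓ⟩
  have hout := Cfsg.Agent.S2121.result ℓ f hFc (by omega)
  have hv : padicValNat p (Nat.card (Cfsg.Out ↥(chevG2.group F))) = j := by
    split_ifs at hout
    · exact hout1 (not_dvd_of_lt (by norm_num) (by omega)) hf hf' hout
    · exact hout1 (c := 1) (not_dvd_of_lt (by norm_num) (by omega)) hf hf' (by rw [one_mul]; exact hout)
  have hnd : ∀ k ∈ [2, 6], ¬ p ∣ k := fun k hk => ndvd_of [2, 3] (by decide) (by simp; omega) k hk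
    (by fin_cases hk <;> norm_num)
  rcases Nat.eq_zero_or_pos j with hj | hj
  · exact meet_of_comm_sub hT (not_dvd_of_v Nat.card_pos.ne' (by rw [hv, hj]))
      (fun Q hQ => deg_G2.comm hnd hpF Q hQ)
  have hb := vbound (odd_of_five hp5) hpq hq2 (ds := [2, 6]) (by simp) (card_dvd deg_G2 hFq) hv
  rw [wt_zero_of hnd, pow_zero] at hb
  have hs5 : 5 ≤ p ^ j := five_le_pow hp5 hj.ne'
  have he0 := order_pos hpq
  have hm : ∀ H : Subgroup ↥(chevG2.group F), H ≠ ⊤ → (q ^ p ^ j) ^ 2 ≤ H.index := fun H hH => by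
    have := Cfsg.Agent.H599.IdxG2.sq_le hs H hH
    rwa [hFq] at this
  have hm0 : 0 < (q ^ p ^ j) ^ 2 := by positivity
  set e := orderOf (q : ZMod p) with he
  have hpow : (q ^ p ^ j) ^ 2 = q ^ (2 * p ^ j) := by rw [← pow_mul, mul_comm]
  rcases Nat.lt_or_ge 2 e with h3 | h3
  · -- `e ≥ 3`, so `p ≥ 7`
    by_cases h7 : 7 ≤ p
    · have hs7 : 7 ≤ p ^ j := h7.trans (Nat.le_self_pow hj.ne' _)
      have hn := nm_check (ds := [2, 6]) (M := 6) (by decide) (fun e n => 2 < e → n ≤ 1 ∧ Nat.totient e * n ≤ 2)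
        (fun e _ => by simp) (by decide) e he0 h3
      refine meet_of_num hp5 hT hm (hb.trans (bound_le' (by omega) hn.1 hn.2 le_rfl)) ?_ hm0
      have := num_ineq (C := 1) (A := 4) (B := 4) (M := 2) (D := 16) (s₀ := 7) (b := 2) (by norm_num) (by norm_num)
        (by norm_num) (by norm_num) (by norm_num) hs7 hq2
      rw [hpow]
      calc (1 * (p ^ j) ^ (1 + 1) * (q + 1) ^ 2) ^ 2 = 1 * (p ^ j) ^ 4 * (q + 1) ^ 4 := by ring
        _ ≤ _ := this.le
    · have h5 : p = 5 := by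
        have h1 : p ≠ 6 := by rintro rfl; exact absurd hp.out (by norm_num)
        omega
      have h4 : e ∣ 4 := by
        have h6 : e ∣ p - 1 := order_dvd hpq
        have h8 : p - 1 = 4 := by omega
        rwa [h8] at h6
      have h4' := Nat.le_of_dvd (by norm_num) h4
      have hn : nm e [2, 6] = 0 := by
        interval_cases e
        · exact absurd h4 (by norm_num)
        · decide
      rw [hn, pow_zero, mul_one, mul_one] at hb
      refine meet_of_num hp5 hT hm hb ?_ hm0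
      have := num_ineq (C := 1) (A := 2) (B := 0) (M := 2) (D := 16) (s₀ := 5) (b := 2) (by norm_num) (by norm_num)
        (by norm_num) (by norm_num) (by norm_num) hs5 hq2
      rw [hpow]
      simpa using this.le
  · have hq4 : 4 ≤ q := by have := le_of_order_le_two hpq hq2 h3; omega
    have hn := nm_check (ds := [2, 6]) (M := 6) (by decide) (fun e n => e ≤ 2 → n ≤ 2 ∧ Nat.totient e * n ≤ 2)
        (fun e _ => by simp) (by decide) e he0 h3
    refine meet_of_num hp5 hT hm (hb.trans (bound_le' (by omega) hn.1 hn.2 le_rfl)) ?_ hm0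
    have := num_ineq (C := 1) (A := 6) (B := 4) (M := 2) (D := 16) (s₀ := 5) (b := 4) (by norm_num) (by norm_num)
      (by norm_num) (by norm_num) (by norm_num) hs5 hq4
    rw [hpow]
    calc (1 * (p ^ j) ^ (2 + 1) * (q + 1) ^ 2) ^ 2 = 1 * (p ^ j) ^ 6 * (q + 1) ^ 4 := by ring
      _ ≤ _ := this.le

theorem cross_F4 {F : Type} [Field F] [Fintype F] (hp5 : 5 ≤ p)
    (hpF : ¬ p ∣ Fintype.card F) : Meet p ↥(chevF4.group F) := by
  classical
  have : Finite (GL chevF4.Idx F) := inferInstance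
  obtain ⟨hs, hT⟩ := Cfsg.Agent.S1054.result (F := F) chevF4 (by simp)
  obtain ⟨ℓ, f, q, j, f', hℓ, hch, hf, hf', hf0, hFc, hqd, hFq, hpq, hq2⟩ := exists_split (p := p) F hpF
  have : Fact ℓ.Prime := ⟨hℓ⟩
  have hout := Cfsg.Agent.S2122.result ℓ f hFc
  have hv : padicValNat p (Nat.card (Cfsg.Out ↥(chevF4.group F))) = j := by
    refine hout1 (not_dvd_of_lt (Nat.gcd_pos_of_pos_left _ (by norm_num)) ?_) hf hf' hout
    have := Nat.gcd_le_left ℓ (show 0 < 2 by norm_num)
    omega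
  have hnd : ∀ k ∈ [2, 6, 8, 12], ¬ p ∣ k := fun k hk => ndvd_of [2, 3] (by decide +kernel) (by simp; omega) k hk
    (by fin_cases hk <;> norm_num)
  rcases Nat.eq_zero_or_pos j with hj | hj
  · exact meet_of_comm_sub hT (not_dvd_of_v Nat.card_pos.ne' (by rw [hv, hj]))
      (fun Q hQ => deg_F4.comm hnd hpF Q hQ)
  have hb := vbound (odd_of_five hp5) hpq hq2 (ds := [2, 6, 8, 12]) (by simp only [_root_.List.mem_cons, _root_.List.not_mem_nil, _root_.or_false, _root_.forall_eq_or_imp, _root_.Order.lt_two_iff, _root_.zero_le, _root_.Nat.ofNat_pos, _root_.forall_eq, _root_.and_self]) (card_dvd deg_F4 hFq) hv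
  rw [wt_zero_of hnd, pow_zero] at hb
  have hs5 : 5 ≤ p ^ j := five_le_pow hp5 hj.ne'
  have he0 := order_pos hpq
  have hm : ∀ H : Subgroup ↥(chevF4.group F), H ≠ ⊤ → 2 * (q ^ p ^ j) ^ 5 ≤ H.index := fun H hH => by
    have := Cfsg.Agent.H599.IdxF4.two_mul_le hs H hH
    rwa [hFq] at this
  have hm0 : 0 < 2 * (q ^ p ^ j) ^ 5 := by positivity
  set e := orderOf (q : ZMod p) with he
  have hpow : 16 * (2 * (q ^ p ^ j) ^ 5) = 32 * q ^ (5 * p ^ j) := by rw [← pow_mul, mul_comm (p ^ j) 5]; ring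
  rcases Nat.lt_or_ge 2 e with h3 | h3
  · have hn := nm_check (ds := [2, 6, 8, 12]) (M := 12) (by decide)
      (fun e n => 2 < e → n ≤ 2 ∧ Nat.totient e * n ≤ 4) (fun e _ => by simp) (by decide) e he0 h3
    refine meet_of_num hp5 hT hm (hb.trans (bound_le' (by omega) hn.1 hn.2 le_rfl)) ?_ hm0
    have := num_ineq (C := 1) (A := 6) (B := 8) (M := 5) (D := 32) (s₀ := 5) (b := 2) (by norm_num) (by norm_num)
      (by norm_num) (by norm_num) (by norm_num) hs5 hq2
    rw [hpow]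
    calc (1 * (p ^ j) ^ (2 + 1) * (q + 1) ^ 4) ^ 2 = 1 * (p ^ j) ^ 6 * (q + 1) ^ 8 := by ring
      _ ≤ _ := this.le
  · have hq4 : 4 ≤ q := by have := le_of_order_le_two hpq hq2 h3; omega
    have hn := nm_check (ds := [2, 6, 8, 12]) (M := 12) (by decide)
      (fun e n => e ≤ 2 → n ≤ 4 ∧ Nat.totient e * n ≤ 4) (fun e _ => by simp) (by decide) e he0 h3
    refine meet_of_num hp5 hT hm (hb.trans (bound_le' (by omega) hn.1 hn.2 le_rfl)) ?_ hm0
    have := num_ineq (C := 1) (A := 10) (B := 8) (M := 5) (D := 32) (s₀ := 5) (b := 4) (by norm_num) (by norm_num)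
      (by norm_num) (by norm_num) (by norm_num) hs5 hq4
    rw [hpow]
    calc (1 * (p ^ j) ^ (4 + 1) * (q + 1) ^ 4) ^ 2 = 1 * (p ^ j) ^ 10 * (q + 1) ^ 8 := by ring
      _ ≤ _ := this.le

/-- `p ^ j ≥ 5` : the case of type `E`, uniform. -/
theorem big_case {T : Type*} [Group T] [Finite T] [IsSimpleGroup T] (hp5 : 5 ≤ p) (hT : ¬ IsMulCommutative T)
    {q j N M l W L : ℕ} (hj : 0 < j) (hpq : ¬ p ∣ q) (hq2 : 2 ≤ q) {ds : List ℕ} (hds : ∀ k ∈ ds, 0 < k ∧ k ≤ L)
    (hcard : Nat.card T ∣ (q ^ p ^ j) ^ N * pr (q ^ p ^ j) ds)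
    (hout : padicValNat p (Nat.card (Cfsg.Out T)) = j)
    (hm : ∀ H : Subgroup T, H ≠ ⊤ → 2 * (q ^ p ^ j) ^ M ≤ H.index)
    (hn : ∀ e ∈ Finset.Icc 1 L, nm e ds ≤ l ∧ Nat.totient e * nm e ds ≤ l)
    {a b : ℕ} (hW : ds.prod = 2 ^ a * 3 ^ b * W) (hW0 : 0 < W)
    (h1 : 2 * l ≤ M * 5) (h2 : W ^ 2 * 5 ^ (2 * l + 2) * 3 ^ (2 * l) < 32 * 2 ^ (M * 5))
    (h3 : 6 ^ (2 * l + 2) ≤ 2 ^ M * 5 ^ (2 * l + 2)) : Meet p T := by
  have hb := vbound (odd_of_five hp5) hpq hq2 (fun k hk => (hds k hk).1) hcard hout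
  have hs5 : 5 ≤ p ^ j := five_le_pow hp5 hj.ne'
  have he0 := order_pos hpq
  have hn' := nm_check hds (fun e n => n ≤ l ∧ Nat.totient e * n ≤ l) (fun e => by simp) hn _ he0
  have hw : p ^ wt p (orderOf (q : ZMod p)) ds ≤ W :=
    (Nat.pow_le_pow_right hp.out.pos (wt_le _ ds fun k hk => (hds k hk).1)).trans (pow_v_le_of hp5 hW hW0)
  have hq0 : 0 < q := by omega
  refine meet_of_num hp5 hT hm (hb.trans (bound_le (by omega) hn'.1 hn'.2 hw)) ?_ (by positivity)
  have := num_ineq (C := W ^ 2) (A := 2 * l + 2) (B := 2 * l) (M := M) (D := 32) (s₀ := 5) (b := 2) (by norm_num)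
    (by norm_num) h1 h2 h3 hs5 hq2
  calc (W * (p ^ j) ^ (l + 1) * (q + 1) ^ l) ^ 2 = W ^ 2 * (p ^ j) ^ (2 * l + 2) * (q + 1) ^ (2 * l) := by ring
    _ ≤ 32 * q ^ (M * p ^ j) := this.le
    _ = 16 * (2 * (q ^ p ^ j) ^ M) := by rw [← pow_mul, mul_comm (p ^ j) M]; ring

/-- the numeric criterion for `j = 0` -/
theorem small_case {T : Type*} [Group T] [Finite T] [IsSimpleGroup T] (hp5 : 5 ≤ p) (hT : ¬ IsMulCommutative T)
    {q N M b W k B : ℕ} (hpq : ¬ p ∣ q) (hq2 : 2 ≤ q) {ds : List ℕ} (hds : ∀ k ∈ ds, 0 < k)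
    (hcard : Nat.card T ∣ q ^ N * pr q ds)
    (hout : padicValNat p (Nat.card (Cfsg.Out T)) = 0)
    (hm : ∀ H : Subgroup T, H ≠ ⊤ → 2 * q ^ M ≤ H.index)
    (hφ : Nat.totient (orderOf (q : ZMod p)) * nm (orderOf (q : ZMod p)) ds = k)
    (hw : p ^ wt p (orderOf (q : ZMod p)) ds = W) (hb0 : 1 ≤ b) (hbq : b ≤ q) (hkB : B = 2 * k)
    (h1 : B ≤ M) (h2 : W ^ 2 * (b + 1) ^ B < 32 * b ^ M) : Meet p T := by
  have hcard' : Nat.card T ∣ (q ^ p ^ 0) ^ N * pr (q ^ p ^ 0) ds := by simpa only [_root_.pow_zero, _root_.pow_one] using hcard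
  have hb := vbound (odd_of_five hp5) hpq hq2 hds hcard' hout
  rw [pow_zero, one_mul, one_mul, ← pow_mul, hφ, hw] at hb
  have hq0 : 0 < q := by omega
  refine meet_of_num hp5 hT hm hb ?_ (by positivity)
  have := num_ineq (C := W ^ 2) (A := 0) (B := B) (M := M) (D := 32) (s₀ := 1) (b := b) hb0
    (by norm_num) (by omega) (by simpa using h2) (by simpa using Nat.one_le_pow _ _ hb0) le_rfl hbq
  subst hkB
  calc ((q + 1) ^ k * W) ^ 2 = W ^ 2 * 1 ^ 0 * (q + 1) ^ (2 * k) := by ring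
    _ ≤ 32 * q ^ (M * 1) := this.le
    _ = 16 * (2 * q ^ M) := by rw [mul_one]; ring

theorem cross_E7 {F : Type} [Field F] [Fintype F] (hp5 : 5 ≤ p)
    (hpF : ¬ p ∣ Fintype.card F) : Meet p ↥(chevE7.group F) := by
  classical
  have : Finite (GL chevE7.Idx F) := inferInstance
  obtain ⟨hs, hT⟩ := Cfsg.Agent.S1054.result (F := F) chevE7 (by simp)
  obtain ⟨ℓ, f, q, j, f', hℓ, hch, hf, hf', hf0, hFc, hqd, hFq, hpq, hq2⟩ := exists_split (p := p) F hpF
  have : Fact ℓ.Prime := ⟨hℓ⟩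
  have hout := Cfsg.Agent.S2124.result ℓ f hFc
  have hv : padicValNat p (Nat.card (Cfsg.Out ↥(chevE7.group F))) = j := by
    refine hout1 (not_dvd_of_lt (Nat.gcd_pos_of_pos_left _ (by norm_num)) ?_) hf hf' hout
    have := Nat.gcd_le_left (ℓ ^ f - 1) (show 0 < 2 by norm_num)
    omega
  have hm : ∀ H : Subgroup ↥(chevE7.group F), H ≠ ⊤ → 2 * (q ^ p ^ j) ^ 17 ≤ H.index := fun H hH => by
    have := Cfsg.Agent.H934.HeisE7.two_mul_le hs H hH
    rwa [hFq] at this
  rcases Nat.eq_zero_or_pos j with hj | hj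
  · subst hj
    simp only [pow_zero, pow_one] at hFq hm
    by_cases h57 : p = 5 ∨ p = 7
    · have hcd := card_dvd deg_E7 hFq
      have hed := order_dvd hpq
      have he0 := order_pos hpq
      have h2q := fun h => le_of_order_le_two hpq hq2 h
      have key : ∀ (k W b B : ℕ), Nat.totient (orderOf (q : ZMod p)) * nm (orderOf (q : ZMod p))
          [2, 6, 8, 10, 12, 14, 18] = k → p ^ wt p (orderOf (q : ZMod p)) [2, 6, 8, 10, 12, 14, 18] = W →
          1 ≤ b → b ≤ q → B = 2 * k → B ≤ 17 → W ^ 2 * (b + 1) ^ B < 32 * b ^ 17 → Meet p ↥(chevE7.group F) :=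
        fun k W b B a1 a2 a3 a4 a5 a6 a7 => small_case hp5 hT hpq hq2 (by simp only [_root_.List.mem_cons, _root_.List.not_mem_nil, _root_.or_false, _root_.forall_eq_or_imp, _root_.Order.lt_two_iff, _root_.zero_le, _root_.Nat.ofNat_pos, _root_.forall_eq, _root_.and_self]) hcd hv hm a1 a2 a3 a4 a5 a6 a7
      generalize orderOf (q : ZMod p) = e at *
      rcases h57 with rfl | rfl
      · have hele := Nat.le_of_dvd (by norm_num) hed
        interval_cases e
        · exact key 7 5 4 14 (by decide) (by decide +kernel) (by norm_num) (by have := h2q (by norm_num); omega)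
            (by norm_num) (by norm_num) (by norm_num)
        · exact key 7 5 4 14 (by decide) (by decide +kernel) (by norm_num) (by have := h2q (by norm_num); omega)
            (by norm_num) (by norm_num) (by norm_num)
        · exact absurd hed (by norm_num)
        · exact key 4 1 2 8 (by decide) (by decide +kernel) (by norm_num) hq2
            (by norm_num) (by norm_num) (by norm_num)
      · have hele := Nat.le_of_dvd (by norm_num) hed
        interval_cases e
        · exact key 7 7 6 14 (by decide) (by decide +kernel) (by norm_num) (by have := h2q (by norm_num); omega)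
            (by norm_num) (by norm_num) (by norm_num)
        · exact key 7 7 6 14 (by decide) (by decide +kernel) (by norm_num) (by have := h2q (by norm_num); omega)
            (by norm_num) (by norm_num) (by norm_num)
        · exact key 6 1 2 12 (by decide) (by decide +kernel) (by norm_num) hq2
            (by norm_num) (by norm_num) (by norm_num)
        · exact absurd hed (by norm_num)
        · exact absurd hed (by norm_num)
        · exact key 6 1 2 12 (by decide) (by decide +kernel) (by norm_num) hq2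
            (by norm_num) (by norm_num) (by norm_num)
    · exact meet_of_comm_sub hT (not_dvd_of_v Nat.card_pos.ne' hv)
        (fun Q hQ => deg_E7.comm (fun k hk => ndvd_of [2, 3, 5, 7] (by decide +kernel) (by simp; omega) k hk
          (by fin_cases hk <;> norm_num)) hpF Q hQ)
  · exact big_case (N := 63) (M := 17) (l := 7) (W := 35) (L := 18) (ds := [2, 6, 8, 10, 12, 14, 18]) hp5 hT hj hpq
      hq2 (by decide) (card_dvd deg_E7 hFq) hv hm (by decide +kernel) (a := 10) (b := 4) (by norm_num) (by norm_num)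
      (by norm_num) (by norm_num) (by norm_num)

theorem cross_E8 {F : Type} [Field F] [Fintype F] (hp5 : 5 ≤ p)
    (hpF : ¬ p ∣ Fintype.card F) : Meet p ↥(chevE8.group F) := by
  classical
  have : Finite (GL chevE8.Idx F) := inferInstance
  obtain ⟨hs, hT⟩ := Cfsg.Agent.S1054.result (F := F) chevE8 (by simp)
  obtain ⟨ℓ, f, q, j, f', hℓ, hch, hf, hf', hf0, hFc, hqd, hFq, hpq, hq2⟩ := exists_split (p := p) F hpF
  have : Fact ℓ.Prime := ⟨hℓ⟩
  have hout := Cfsg.Agent.S2125.result ℓ f hFc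
  have hv : padicValNat p (Nat.card (Cfsg.Out ↥(chevE8.group F))) = j :=
    hout1 (c := 1) (not_dvd_of_lt (by norm_num) (by omega)) hf hf' (by rw [one_mul]; exact hout)
  have hm : ∀ H : Subgroup ↥(chevE8.group F), H ≠ ⊤ → 2 * (q ^ p ^ j) ^ 29 ≤ H.index := fun H hH => by
    have := Cfsg.Agent.H934.HeisE8.two_mul_le hs H hH
    rwa [hFq] at this
  rcases Nat.eq_zero_or_pos j with hj | hj
  · subst hj
    simp only [pow_zero, pow_one] at hFq hm
    by_cases h57 : p = 5 ∨ p = 7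
    · have hcd := card_dvd deg_E8 hFq
      have hed := order_dvd hpq
      have he0 := order_pos hpq
      have h2q := fun h => le_of_order_le_two hpq hq2 h
      have key : ∀ (k W b B : ℕ), Nat.totient (orderOf (q : ZMod p)) * nm (orderOf (q : ZMod p))
          [2, 8, 12, 14, 18, 20, 24, 30] = k → p ^ wt p (orderOf (q : ZMod p)) [2, 8, 12, 14, 18, 20, 24, 30] = W →
          1 ≤ b → b ≤ q → B = 2 * k → B ≤ 29 → W ^ 2 * (b + 1) ^ B < 32 * b ^ 29 → Meet p ↥(chevE8.group F) :=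
        fun k W b B a1 a2 a3 a4 a5 a6 a7 => small_case hp5 hT hpq hq2 (by simp only [_root_.List.mem_cons, _root_.List.not_mem_nil, _root_.or_false, _root_.forall_eq_or_imp, _root_.Order.lt_two_iff, _root_.zero_le, _root_.Nat.ofNat_pos, _root_.forall_eq, _root_.and_self]) hcd hv hm a1 a2 a3 a4 a5 a6 a7
      generalize orderOf (q : ZMod p) = e at *
      rcases h57 with rfl | rfl
      · have hele := Nat.le_of_dvd (by norm_num) hed
        interval_cases e
        · exact key 8 25 4 16 (by decide) (by decide +kernel) (by norm_num) (by have := h2q (by norm_num); omega)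
            (by norm_num) (by norm_num) (by norm_num)
        · exact key 8 25 4 16 (by decide) (by decide +kernel) (by norm_num) (by have := h2q (by norm_num); omega)
            (by norm_num) (by norm_num) (by norm_num)
        · exact absurd hed (by norm_num)
        · exact key 8 5 2 16 (by decide) (by decide +kernel) (by norm_num) hq2
            (by norm_num) (by norm_num) (by norm_num)
      · have hele := Nat.le_of_dvd (by norm_num) hed
        interval_cases e
        · exact key 8 7 6 16 (by decide) (by decide +kernel) (by norm_num) (by have := h2q (by norm_num); omega)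
            (by norm_num) (by norm_num) (by norm_num)
        · exact key 8 7 6 16 (by decide) (by decide +kernel) (by norm_num) (by have := h2q (by norm_num); omega)
            (by norm_num) (by norm_num) (by norm_num)
        · exact key 8 1 2 16 (by decide) (by decide +kernel) (by norm_num) hq2
            (by norm_num) (by norm_num) (by norm_num)
        · exact absurd hed (by norm_num)
        · exact absurd hed (by norm_num)
        · exact key 8 1 2 16 (by decide) (by decide +kernel) (by norm_num) hq2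
            (by norm_num) (by norm_num) (by norm_num)
    · exact meet_of_comm_sub hT (not_dvd_of_v Nat.card_pos.ne' hv)
        (fun Q hQ => deg_E8.comm (fun k hk => ndvd_of [2, 3, 5, 7] (by decide +kernel) (by simp; omega) k hk
          (by fin_cases hk <;> norm_num)) hpF Q hQ)
  · exact big_case (N := 120) (M := 29) (l := 8) (W := 175) (L := 30) (ds := [2, 8, 12, 14, 18, 20, 24, 30]) hp5 hT
      hj hpq hq2 (by decide) (card_dvd deg_E8 hFq) hv hm (by decide +kernel) (a := 14) (b := 5) (by norm_num) (by norm_num)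
      (by norm_num) (by norm_num) (by norm_num)

/-- `E₆`, all but `p = 5 ∣ q - 1`, `5 ∤ f`. -/
theorem cross_E6_of {F : Type} [Field F] [Fintype F] (hp5 : 5 ≤ p)
    (hpF : ¬ p ∣ Fintype.card F) (hspec : p = 5 → 5 ∣ Fintype.card F - 1 →
      ¬ p ∣ Nat.card (Cfsg.Out ↥(chevE6.group F)) → Meet p ↥(chevE6.group F)) : Meet p ↥(chevE6.group F) := by
  classical
  have : Finite (GL chevE6.Idx F) := inferInstance
  obtain ⟨hs, hT⟩ := Cfsg.Agent.S1054.result (F := F) chevE6 (by simp)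
  obtain ⟨ℓ, f, q, j, f', hℓ, hch, hf, hf', hf0, hFc, hqd, hFq, hpq, hq2⟩ := exists_split (p := p) F hpF
  have : Fact ℓ.Prime := ⟨hℓ⟩
  have hout := Cfsg.Agent.S2123.result ℓ f hFc
  have hv : padicValNat p (Nat.card (Cfsg.Out ↥(chevE6.group F))) = j := by
    refine hout1 ?_ hf hf' hout
    have h3 : Nat.gcd 3 (ℓ ^ f - 1) ∣ 3 := Nat.gcd_dvd_left _ _
    intro hd
    have h6 : p ∣ 2 * 3 := hd.trans (Nat.mul_dvd_mul_left 2 h3)
    rcases (Nat.Prime.dvd_mul hp.out).1 h6 with h | h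
    · exact not_dvd_of_lt (by norm_num) (by omega) h
    · exact not_dvd_of_lt (by norm_num) (by omega) h
  have hm : ∀ H : Subgroup ↥(chevE6.group F), H ≠ ⊤ → 2 * (q ^ p ^ j) ^ 11 ≤ H.index := fun H hH => by
    have := Cfsg.Agent.H934.HeisE6.two_mul_le hs H hH
    rwa [hFq] at this
  rcases Nat.eq_zero_or_pos j with hj | hj
  · subst hj
    simp only [pow_zero, pow_one] at hFq hm
    by_cases h57 : p = 5
    · have hcd := card_dvd deg_E6 hFq
      have hed := order_dvd hpq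
      have he0 := order_pos hpq
      have h2q := fun h => le_of_order_le_two hpq hq2 h
      have h1q : orderOf (q : ZMod p) = 1 → p ∣ q - 1 := fun h => by
        have := (dvd_iff_order (p := p) (q := q) (k := 1) (by omega)).2 (by rw [h])
        rwa [pow_one] at this
      have key : ∀ (k W b B : ℕ), Nat.totient (orderOf (q : ZMod p)) * nm (orderOf (q : ZMod p))
          [2, 5, 6, 8, 9, 12] = k → p ^ wt p (orderOf (q : ZMod p)) [2, 5, 6, 8, 9, 12] = W →
          1 ≤ b → b ≤ q → B = 2 * k → B ≤ 11 → W ^ 2 * (b + 1) ^ B < 32 * b ^ 11 → Meet p ↥(chevE6.group F) :=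
        fun k W b B a1 a2 a3 a4 a5 a6 a7 => small_case hp5 hT hpq hq2 (by simp only [_root_.List.mem_cons, _root_.List.not_mem_nil, _root_.or_false, _root_.forall_eq_or_imp, _root_.Order.lt_two_iff, _root_.zero_le, _root_.Nat.ofNat_pos, _root_.forall_eq, _root_.and_self]) hcd hv hm a1 a2 a3 a4 a5 a6 a7
      generalize orderOf (q : ZMod p) = e at *
      subst h57
      have hele := Nat.le_of_dvd (by norm_num) hed
      interval_cases e
      · refine hspec rfl ?_ (not_dvd_of_v Nat.card_pos.ne' hv)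
        rw [hFq]
        exact h1q rfl
      · exact key 4 1 2 8 (by decide) (by decide +kernel) (by norm_num) hq2
            (by norm_num) (by norm_num) (by norm_num)
      · exact absurd hed (by norm_num)
      · exact key 4 1 2 8 (by decide) (by decide +kernel) (by norm_num) hq2
            (by norm_num) (by norm_num) (by norm_num)
    · exact meet_of_comm_sub hT (not_dvd_of_v Nat.card_pos.ne' hv)
        (fun Q hQ => deg_E6.comm (fun k hk => ndvd_of [2, 3, 5] (by decide +kernel) (by simp; omega) k hk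
          (by fin_cases hk <;> norm_num)) hpF Q hQ)
  · exact big_case (N := 36) (M := 11) (l := 6) (W := 5) (L := 12) (ds := [2, 5, 6, 8, 9, 12]) hp5 hT
      hj hpq hq2 (by decide) (card_dvd deg_E6 hFq) hv hm (by decide) (a := 7) (b := 4) (by norm_num) (by norm_num)
      (by norm_num) (by norm_num) (by norm_num)

end Cfsg.Agent.H172.SI
end
end

-- part: H172/SITw
section
set_option linter.all false
open scoped Cfsg.Agent.FastGrp

/-!
helper172, for S5762: `³D₄(q)` in cross characteristic, and `²E₆(q)` except `p = 5 ∣ q + 1`.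
-/

set_option autoImplicit false

namespace Cfsg.Agent.H172.SI

open Cfsg.Lie Cfsg.Agent.H903.SylMeet Cfsg.Agent.ChevalleyStructure Cfsg.Agent.ChevalleyStructure.Elts

variable {p : ℕ} [hp : Fact p.Prime]

theorem gen_le {D : ChevalleyDatum} (hD : InList D) (K : Type*) [Field K] (W : Set (List (ℕ × K))) :
    D.genSubgroup K W ≤ D.group K := by
  unfold ChevalleyDatum.genSubgroup
  rw [Subgroup.closure_le]
  rintro g ⟨w, -, hg⟩
  rw [(eq_wordG_iff hD g w).2 hg]
  exact wordG_mem_group hD w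

/-- commutativity in subgroups -/
theorem Deg.comm_le {D : ChevalleyDatum} {d : ℕ → ℕ} {N : ℕ} {ds : List ℕ} (h : Deg D d N ds)
    (hds : ∀ k ∈ ds, ¬ p ∣ k) {F : Type} [Field F] [Fintype F] (hpF : ¬ p ∣ Fintype.card F)
    {X : Subgroup (GL D.Idx F)} (hX : X ≤ D.group F)
    (Q : Subgroup ↥X) (hQ : IsPGroup p Q) : ∀ a ∈ Q, ∀ b ∈ Q, a * b = b * a := by
  intro a ha b hb
  have h1 := h.comm hds hpF (Q.map (Subgroup.inclusion hX)) (hQ.map _) _ (Subgroup.mem_map_of_mem _ ha) _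
    (Subgroup.mem_map_of_mem _ hb)
  rw [← map_mul, ← map_mul] at h1
  exact Subgroup.inclusion_injective hX h1

theorem split_q {q : ℕ} (hq : IsPrimePow q) (hpq : ¬ p ∣ q) :
    ∃ (ℓ f q₁ j f' : ℕ), ℓ.Prime ∧ f = p ^ j * f' ∧ ¬ p ∣ f' ∧ 0 < f' ∧ 1 ≤ f ∧ q = ℓ ^ f ∧
      q₁ = ℓ ^ f' ∧ q = q₁ ^ p ^ j ∧ ¬ p ∣ q₁ ∧ 2 ≤ q₁ := by
  rw [isPrimePow_nat_iff] at hq
  obtain ⟨ℓ, f, hℓ, hf, rfl⟩ := hq
  obtain ⟨j, f', hf', hnf⟩ := Nat.exists_eq_pow_mul_and_not_dvd hf.ne' p hp.out.ne_one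
  have hf0 : 0 < f' := by
    rcases Nat.eq_zero_or_pos f' with h | h
    · exact absurd (h ▸ dvd_zero p) hf'
    · exact h
  have hq : ℓ ^ f = (ℓ ^ f') ^ p ^ j := by rw [← pow_mul, hnf, mul_comm]
  refine ⟨ℓ, f, ℓ ^ f', j, f', hℓ, hnf, hf', hf0, hf, rfl, rfl, hq, ?_, ?_⟩
  · intro h
    apply hpq
    rw [hq]
    exact h.trans (dvd_pow_self _ (pow_pos hp.out.pos _).ne')
  · calc 2 ≤ ℓ := hℓ.two_le
      _ ≤ ℓ ^ f' := Nat.le_self_pow hf0.ne' _

theorem charP_of_card {K : Type*} [Field K] [Fintype K] {ℓ n : ℕ} (hℓ : ℓ.Prime) (_ : 1 ≤ n)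
    (h : Fintype.card K = ℓ ^ n) : CharP K ℓ := by
  obtain ⟨r, hr⟩ := CharP.exists K
  obtain ⟨m, hrp, hm⟩ := FiniteField.card K r
  have h1 : r ∣ ℓ ^ n := by rw [← h, hm]; exact dvd_pow_self _ m.pos.ne'
  have h2 := (Nat.prime_dvd_prime_iff_eq hrp hℓ).1 (hrp.dvd_of_dvd_pow h1)
  rwa [h2] at hr

theorem cross_3D4 {K : Type} [Field K] [Fintype K] (q : ℕ) (hq : IsPrimePow q) (hK : Fintype.card K = q ^ 3)
    (hp5 : 5 ≤ p) (hpK : ¬ p ∣ q) : Meet p ↥(twistedD4 K q) := by
  classical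
  have : Finite (GL chevD4.Idx K) := inferInstance
  obtain ⟨hs, hT⟩ := Cfsg.Agent.S1071.result hq hK
  obtain ⟨ℓ, f, q₁, j, f', hℓ, hf, hf', hf0, hf1, rfl, hqd, hFq, hpq, hq2⟩ := split_q hq hpK
  have : Fact ℓ.Prime := ⟨hℓ⟩
  have hK3 : Fintype.card K = ℓ ^ (3 * f) := by rw [hK, ← pow_mul, mul_comm]
  have : CharP K ℓ := charP_of_card hℓ (by omega) hK3
  have hout := Cfsg.Agent.S2129.result ℓ f hK3 hf1
  have hv : padicValNat p (Nat.card (Cfsg.Out ↥(twistedD4 K (ℓ ^ f)))) = j := by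
    rw [hout]
    exact v_mul_coprime (not_dvd_of_lt (by norm_num) (by omega)) hf hf'
  have hnd' : ∀ k ∈ [2, 4, 4, 6], ¬ p ∣ k := fun k hk => ndvd_of [2, 3] (by decide) (by simp; omega) k hk
    (by fin_cases hk <;> norm_num)
  have hnd : ∀ k ∈ [2, 6, 12], ¬ p ∣ k := fun k hk => ndvd_of [2, 3] (by decide) (by simp; omega) k hk
    (by fin_cases hk <;> norm_num)
  rcases Nat.eq_zero_or_pos j with hj | hj
  · refine meet_of_comm_sub hT (not_dvd_of_v Nat.card_pos.ne' (by rw [hv, hj]))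
      (fun Q hQ => deg_D4.comm_le hnd' ?_ (gen_le (by simp [InList]) K _) Q hQ)
    rw [hK]
    exact fun h => hpK (hp.out.dvd_of_dvd_pow h)
  have hcd : Nat.card ↥(twistedD4 K (ℓ ^ f)) ∣ (q₁ ^ p ^ j) ^ 12 * pr (q₁ ^ p ^ j) [2, 6, 12] := by
    rw [← hFq]
    have h1 := Cfsg.Agent.S1067.result hq hK
    refine ⟨(ℓ ^ f) ^ 4 - 1, ?_⟩
    rw [h1]
    have h2 : ((ℓ ^ f) ^ 8 + (ℓ ^ f) ^ 4 + 1) * ((ℓ ^ f) ^ 4 - 1) = (ℓ ^ f) ^ 12 - 1 := by
      have h3 : 1 ≤ (ℓ ^ f) ^ 4 := Nat.one_le_pow _ _ (pow_pos hℓ.pos _)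
      obtain ⟨x, hx⟩ := Nat.exists_eq_add_of_le h3
      have h4 : (ℓ ^ f) ^ 8 = ((ℓ ^ f) ^ 4) ^ 2 := by ring
      have h5 : (ℓ ^ f) ^ 12 = ((ℓ ^ f) ^ 4) ^ 3 := by ring
      rw [h4, h5, hx, Nat.add_sub_cancel_left]
      have h6 : (1 + x) ^ 3 = ((1 + x) ^ 2 + (1 + x) + 1) * x + 1 := by ring
      rw [h6, Nat.add_sub_cancel]
    have h7 : pr (ℓ ^ f) [2, 6, 12] = ((ℓ ^ f) ^ 2 - 1) * ((ℓ ^ f) ^ 6 - 1) * ((ℓ ^ f) ^ 12 - 1) := by
      simp only [pr, mul_assoc, _root_.List.map_cons, _root_.List.map_nil, _root_.List.prod_cons, _root_.List.prod_nil, _root_.mul_one]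
    rw [h7, ← h2]
    ring
  have hb := vbound (odd_of_five hp5) hpq hq2 (ds := [2, 6, 12]) (by simp only [_root_.List.mem_cons, _root_.List.not_mem_nil, _root_.or_false, _root_.forall_eq_or_imp, _root_.Order.lt_two_iff, _root_.zero_le, _root_.Nat.ofNat_pos, _root_.forall_eq, _root_.and_self]) hcd hv
  rw [wt_zero_of hnd, pow_zero] at hb
  have hs5 : 5 ≤ p ^ j := five_le_pow hp5 hj.ne'
  have he0 := order_pos hpq
  have hm : ∀ H : Subgroup ↥(twistedD4 K (ℓ ^ f)), H ≠ ⊤ → (q₁ ^ p ^ j) ^ 10 ≤ H.index ^ 2 := fun H hH => by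
    rw [← hFq]
    exact Cfsg.Agent.H934.HeisTwD4.bound_3D4 hq hK hs H hH
  have hm0 : 0 < (q₁ ^ p ^ j) ^ 10 := by positivity
  set e := orderOf (q₁ : ZMod p) with he
  have hpow : 256 * (q₁ ^ p ^ j) ^ 10 = 256 * q₁ ^ (10 * p ^ j) := by rw [← pow_mul, mul_comm (p ^ j) 10]
  rcases Nat.lt_or_ge 2 e with h3 | h3
  · have hn := nm_check (ds := [2, 6, 12]) (M := 12) (by decide)
      (fun e n => 2 < e → n ≤ 2 ∧ Nat.totient e * n ≤ 4) (fun e _ => by simp) (by decide) e he0 h3
    refine meet_of_num_sq hp5 hT hm (hb.trans (bound_le' (by omega) hn.1 hn.2 le_rfl)) ?_ hm0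
    have := num_ineq (C := 1) (A := 12) (B := 16) (M := 10) (D := 256) (s₀ := 5) (b := 2) (by norm_num) (by norm_num)
      (by norm_num) (by norm_num) (by norm_num) hs5 hq2
    rw [hpow]
    calc (1 * (p ^ j) ^ (2 + 1) * (q₁ + 1) ^ 4) ^ 4 = 1 * (p ^ j) ^ 12 * (q₁ + 1) ^ 16 := by ring
      _ ≤ _ := this.le
  · have hn := nm_check (ds := [2, 6, 12]) (M := 12) (by decide)
      (fun e n => e ≤ 2 → n ≤ 3 ∧ Nat.totient e * n ≤ 3) (fun e _ => by simp) (by decide) e he0 h3
    refine meet_of_num_sq hp5 hT hm (hb.trans (bound_le' (by omega) hn.1 hn.2 le_rfl)) ?_ hm0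
    have := num_ineq (C := 1) (A := 16) (B := 12) (M := 10) (D := 256) (s₀ := 5) (b := 2) (by norm_num) (by norm_num)
      (by norm_num) (by norm_num) (by norm_num) hs5 hq2
    rw [hpow]
    calc (1 * (p ^ j) ^ (3 + 1) * (q₁ + 1) ^ 3) ^ 4 = 1 * (p ^ j) ^ 16 * (q₁ + 1) ^ 12 := by ring
      _ ≤ _ := this.le

/-- `²E₆(q)`, all but `p = 5 ∣ q + 1`, `5 ∤ f`. -/
theorem cross_2E6_of {K : Type} [Field K] [Fintype K] (q : ℕ) (hq : IsPrimePow q) (hK : Fintype.card K = q ^ 2)
    (hp5 : 5 ≤ p) (hpK : ¬ p ∣ q) (hspec : p = 5 → 5 ∣ q + 1 →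
      ¬ p ∣ Nat.card (Cfsg.Out ↥(twistedE6 K q)) → Meet p ↥(twistedE6 K q)) : Meet p ↥(twistedE6 K q) := by
  classical
  have : Finite (GL chevE6.Idx K) := inferInstance
  obtain ⟨hs, hT⟩ := Cfsg.Agent.S1070.result hq hK
  obtain ⟨ℓ, f, q₁, j, f', hℓ, hf, hf', hf0, hf1, rfl, hqd, hFq, hpq, hq2⟩ := split_q hq hpK
  have : Fact ℓ.Prime := ⟨hℓ⟩
  have hK3 : Fintype.card K = ℓ ^ (2 * f) := by rw [hK, ← pow_mul, mul_comm]
  have : CharP K ℓ := charP_of_card hℓ (by omega) hK3
  have hout := Cfsg.Agent.S2130.result ℓ f hK3 hf1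
  have hv : padicValNat p (Nat.card (Cfsg.Out ↥(twistedE6 K (ℓ ^ f)))) = j := by
    rw [hout]
    refine v_mul_coprime ?_ hf hf'
    have h3 : Nat.gcd 3 (ℓ ^ f + 1) ∣ 3 := Nat.gcd_dvd_left _ _
    intro hd
    have h6 : p ∣ 2 * 3 := hd.trans (Nat.mul_dvd_mul_left 2 h3)
    rcases (Nat.Prime.dvd_mul hp.out).1 h6 with h | h
    · exact not_dvd_of_lt (by norm_num) (by omega) h
    · exact not_dvd_of_lt (by norm_num) (by omega) h
  have hqpos : 1 ≤ ℓ ^ f := pow_pos hℓ.pos _
  have hcard := Cfsg.Agent.S1066.result hq hK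
  have hpow1 : ∀ k : ℕ, ((ℓ ^ f) ^ k + 1) * ((ℓ ^ f) ^ k - 1) = (ℓ ^ f) ^ (2 * k) - 1 := by
    intro k
    have := Nat.sq_sub_sq ((ℓ ^ f) ^ k) 1
    rw [one_pow, ← pow_mul, mul_comm k 2] at this
    exact this.symm
  have hm : ∀ H : Subgroup ↥(twistedE6 K (ℓ ^ f)), H ≠ ⊤ → (q₁ ^ p ^ j) ^ 22 ≤ H.index ^ 2 := fun H hH => by
    rw [← hFq]
    exact Cfsg.Agent.H934.HeisTwE6.bound_2E6 hq hK hs H hH
  have hm0 : 0 < (q₁ ^ p ^ j) ^ 22 := by positivity
  have hcd : Nat.card ↥(twistedE6 K (ℓ ^ f)) ∣ (q₁ ^ p ^ j) ^ 36 * pr (q₁ ^ p ^ j) [2, 6, 8, 10, 12, 18] := by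
    rw [← hFq]
    refine ⟨Nat.gcd 3 (ℓ ^ f + 1) * (((ℓ ^ f) ^ 5 - 1) * ((ℓ ^ f) ^ 9 - 1)), ?_⟩
    have h7 : pr (ℓ ^ f) [2, 6, 8, 10, 12, 18] = ((ℓ ^ f) ^ 2 - 1) * ((ℓ ^ f) ^ 6 - 1) * ((ℓ ^ f) ^ 8 - 1) *
        ((ℓ ^ f) ^ (2 * 5) - 1) * ((ℓ ^ f) ^ 12 - 1) * ((ℓ ^ f) ^ (2 * 9) - 1) := by
      simp only [pr, mul_assoc, _root_.List.map_cons, _root_.List.map_nil, _root_.List.prod_cons, _root_.List.prod_nil, _root_.mul_one, _root_.Nat.reduceMul]
    rw [h7, ← hpow1, ← hpow1]
    calc _ = ((ℓ ^ f) ^ 36 * ((ℓ ^ f) ^ 2 - 1) * ((ℓ ^ f) ^ 5 + 1) * ((ℓ ^ f) ^ 6 - 1) * ((ℓ ^ f) ^ 8 - 1) *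
        ((ℓ ^ f) ^ 9 + 1) * ((ℓ ^ f) ^ 12 - 1)) * (((ℓ ^ f) ^ 5 - 1) * ((ℓ ^ f) ^ 9 - 1)) := by ring
      _ = _ := by rw [← hcard]; ring
  rcases Nat.eq_zero_or_pos j with hj | hj
  · subst hj
    simp only [pow_zero, pow_one] at hFq hm hcd hm0
    subst hFq
    by_cases h57 : p = 5
    · have hed := order_dvd hpq
      have he0 := order_pos hpq
      have h1q : orderOf ((ℓ ^ f : ℕ) : ZMod p) = 1 → p ∣ ℓ ^ f - 1 := fun h => by
        have := (dvd_iff_order (p := p) (q := ℓ ^ f) (k := 1) (by omega)).2 (by rw [h])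
        rwa [pow_one] at this
      have h2q : orderOf ((ℓ ^ f : ℕ) : ZMod p) = 2 → p ∣ ℓ ^ f + 1 := fun h => by
        have h1 := (dvd_iff_order (p := p) (q := ℓ ^ f) (k := 2) (by omega)).2 (by rw [h])
        have h3 : ¬ p ∣ ℓ ^ f - 1 := fun h4 => by
          have h5 := (dvd_iff_order (p := p) (q := ℓ ^ f) (k := 1) (by omega)).1 (by rwa [pow_one])
          rw [h] at h5
          exact absurd h5 (by norm_num)
        have h6 := hpow1 1
        rw [pow_one, mul_one] at h6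
        rw [← h6] at h1
        exact ((Nat.Prime.dvd_mul hp.out).1 h1).resolve_right h3
      -- the numeric case
      have hnum : ∀ ds : List ℕ, (∀ k ∈ ds, 0 < k) → (∀ k ∈ ds, ¬ p ∣ k ∨ ¬ orderOf ((ℓ ^ f : ℕ) : ZMod p) ∣ k) →
          padicValNat p (Nat.card ↥(twistedE6 K (ℓ ^ f))) ≤ padicValNat p (pr (ℓ ^ f) ds) →
          Nat.totient (orderOf ((ℓ ^ f : ℕ) : ZMod p)) * nm (orderOf ((ℓ ^ f : ℕ) : ZMod p)) ds ≤ 4 →
          Meet p ↥(twistedE6 K (ℓ ^ f)) := by
        intro ds hds hds2 hval hφ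
        have hb := pow_v_pr_le (odd_of_five hp5) (j := 0) hpq hq2 ds hds
        rw [pow_zero, pow_one, one_mul, ← pow_mul] at hb
        have hw : ∀ es : List ℕ, (∀ k ∈ es, ¬ p ∣ k ∨ ¬ orderOf ((ℓ ^ f : ℕ) : ZMod p) ∣ k) →
            wt p (orderOf ((ℓ ^ f : ℕ) : ZMod p)) es = 0 := by
          intro es
          induction es with
          | nil => intro _; rfl
          | cons k es ih =>
            intro h
            rw [wt, ih fun k hk => h k (by simp [hk]), add_zero]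
            split_ifs with h1
            · exact padicValNat.eq_zero_of_not_dvd ((h k (by simp)).resolve_right (by simpa only [_root_.Nat.cast_pow, _root_.Decidable.not_not] using h1))
            · rfl
        rw [hw ds hds2, pow_zero, mul_one] at hb
        have hb2 : p ^ (padicValNat p (Nat.card ↥(twistedE6 K (ℓ ^ f))) +
            padicValNat p (Nat.card (Cfsg.Out ↥(twistedE6 K (ℓ ^ f))))) ≤ (ℓ ^ f + 1) ^ 4 := by
          rw [hv, add_zero]
          exact (Nat.pow_le_pow_right hp.out.pos hval).trans (hb.trans (Nat.pow_le_pow_right (by omega) hφ))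
        refine meet_of_num_sq hp5 hT hm hb2 ?_ hm0
        have := num_ineq (C := 1) (A := 0) (B := 16) (M := 22) (D := 256) (s₀ := 1) (b := 2) (by norm_num)
          (by norm_num) (by norm_num) (by norm_num) (by norm_num) le_rfl hq2
        calc ((ℓ ^ f + 1) ^ 4) ^ 4 = 1 * 1 ^ 0 * (ℓ ^ f + 1) ^ 16 := by ring
          _ ≤ 256 * (ℓ ^ f) ^ (22 * 1) := this.le
          _ = _ := by ring
      -- valuation of the order
      have hval0 : padicValNat p (Nat.card ↥(twistedE6 K (ℓ ^ f))) ≤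
          padicValNat p ((ℓ ^ f) ^ 2 - 1) + padicValNat p ((ℓ ^ f) ^ 5 + 1) + padicValNat p ((ℓ ^ f) ^ 6 - 1) +
          padicValNat p ((ℓ ^ f) ^ 8 - 1) + padicValNat p ((ℓ ^ f) ^ 9 + 1) + padicValNat p ((ℓ ^ f) ^ 12 - 1) := by
        have hz : ∀ k : ℕ, 0 < k → (ℓ ^ f) ^ k - 1 ≠ 0 := fun k hk => by
          have : 1 < (ℓ ^ f) ^ k := Nat.one_lt_pow hk.ne' (by omega)
          omega
        have h2 : padicValNat p (Nat.card ↥(twistedE6 K (ℓ ^ f))) ≤
            padicValNat p (Nat.gcd 3 (ℓ ^ f + 1) * Nat.card ↥(twistedE6 K (ℓ ^ f))) := by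
          rw [padicValNat.mul (Nat.gcd_pos_of_pos_left _ (by norm_num)).ne' Nat.card_pos.ne']
          omega
        rw [hcard] at h2
        have h36 : padicValNat p ((ℓ ^ f) ^ 36) = 0 :=
          padicValNat.eq_zero_of_not_dvd fun h => hpq (hp.out.dvd_of_dvd_pow h)
        have z2 := hz 2 (by norm_num)
        have z6 := hz 6 (by norm_num)
        have z8 := hz 8 (by norm_num)
        have z12 := hz 12 (by norm_num)
        rw [padicValNat.mul (by (clear * - hqpos z2 z6 z8; positivity)) z12, padicValNat.mul (by (clear * - hqpos z2 z6 z8; positivity)) (by (clear * - hqpos; positivity)),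
          padicValNat.mul (by (clear * - hqpos z2 z6; positivity)) z8, padicValNat.mul (by (clear * - hqpos z2; positivity)) z6,
          padicValNat.mul (by (clear * - hqpos z2; positivity)) (by (clear * - hqpos; positivity)), padicValNat.mul (by (clear * - hqpos; positivity)) z2, h36] at h2
        omega
      subst h57
      generalize heq : orderOf ((ℓ ^ f : ℕ) : ZMod 5) = e at *
      have hele := Nat.le_of_dvd (by norm_num) hed
      interval_cases e
      · -- `5 ∣ q - 1`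
        have hmod : ℓ ^ f % 5 = 1 := by have := h1q rfl; (clear * - hq2 this; omega)
        have hk : ∀ k : ℕ, padicValNat 5 ((ℓ ^ f) ^ k + 1) = 0 := fun k => by
          apply padicValNat.eq_zero_of_not_dvd
          intro h
          have h1 : ((ℓ ^ f) ^ k + 1) % 5 = 2 := by
            rw [Nat.add_mod, Nat.pow_mod, hmod, one_pow]
            norm_num
          omega
        refine hnum [2, 6, 8, 12] (by simp only [_root_.List.mem_cons, _root_.List.not_mem_nil, _root_.or_false, _root_.forall_eq_or_imp, _root_.Order.lt_two_iff, _root_.zero_le, _root_.Nat.ofNat_pos, _root_.forall_eq, _root_.and_self]) (by decide) ?_ (by decide)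
        rw [hk, hk] at hval0
        refine hval0.trans (le_of_eq ?_)
        have hz : ∀ k : ℕ, 0 < k → (ℓ ^ f) ^ k - 1 ≠ 0 := fun k hk => by
          have : 1 < (ℓ ^ f) ^ k := Nat.one_lt_pow hk.ne' (by omega)
          omega
        have h7 : pr (ℓ ^ f) [2, 6, 8, 12] = ((ℓ ^ f) ^ 2 - 1) * ((ℓ ^ f) ^ 6 - 1) * ((ℓ ^ f) ^ 8 - 1) *
            ((ℓ ^ f) ^ 12 - 1) := by simp only [pr, mul_assoc, _root_.List.map_cons, _root_.List.map_nil, _root_.List.prod_cons, _root_.List.prod_nil, _root_.mul_one]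
        have z2 := hz 2 (by norm_num)
        have z6 := hz 6 (by norm_num)
        have z8 := hz 8 (by norm_num)
        have z12 := hz 12 (by norm_num)
        rw [h7, padicValNat.mul (mul_ne_zero (mul_ne_zero z2 z6) z8) z12, padicValNat.mul (mul_ne_zero z2 z6) z8,
          padicValNat.mul z2 z6]
        omega
      · exact hspec rfl (h2q rfl) (not_dvd_of_v Nat.card_pos.ne' hv)
      · exact absurd hed (by norm_num)
      · refine hnum [2, 6, 8, 10, 12, 18] (by simp only [_root_.List.mem_cons, _root_.List.not_mem_nil, _root_.or_false, _root_.forall_eq_or_imp, _root_.Order.lt_two_iff, _root_.zero_le, _root_.Nat.ofNat_pos, _root_.forall_eq, _root_.and_self]) (by decide) ?_ (by decide)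
        have h2 : padicValNat 5 (Nat.card ↥(twistedE6 K (ℓ ^ f))) ≤
            padicValNat 5 ((ℓ ^ f) ^ 36 * pr (ℓ ^ f) [2, 6, 8, 10, 12, 18]) := by
          rw [← Nat.factorization_def _ hp.out, ← Nat.factorization_def _ hp.out]
          exact (Nat.factorization_le_iff_dvd Nat.card_pos.ne'
            (mul_ne_zero (by (clear * - hqpos; positivity)) (pr_ne_zero hq2 (by simp only [_root_.List.mem_cons, _root_.List.not_mem_nil, _root_.or_false, _root_.forall_eq_or_imp, _root_.Order.lt_two_iff, _root_.zero_le, _root_.Nat.ofNat_pos, _root_.forall_eq, _root_.and_self])))).2 hcd 5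
        have h36 : padicValNat 5 ((ℓ ^ f) ^ 36) = 0 :=
          padicValNat.eq_zero_of_not_dvd fun h => hpq (hp.out.dvd_of_dvd_pow h)
        rwa [padicValNat.mul (by (clear * - hqpos; positivity)) (pr_ne_zero hq2 (by simp only [_root_.List.mem_cons, _root_.List.not_mem_nil, _root_.or_false, _root_.forall_eq_or_imp, _root_.Order.lt_two_iff, _root_.zero_le, _root_.Nat.ofNat_pos, _root_.forall_eq, _root_.and_self])), h36, zero_add] at h2
    · refine meet_of_comm_sub hT (not_dvd_of_v Nat.card_pos.ne' hv)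
        (fun Q hQ => deg_E6.comm_le (fun k hk => ndvd_of [2, 3, 5] (by decide +kernel) (by simp; omega) k hk
          (by fin_cases hk <;> norm_num)) ?_ (gen_le (by simp [InList]) K _) Q hQ)
      rw [hK]
      exact fun h => hpK (hp.out.dvd_of_dvd_pow h)
  · have hb := vbound (odd_of_five hp5) hpq hq2 (ds := [2, 6, 8, 10, 12, 18]) (by simp only [_root_.List.mem_cons, _root_.List.not_mem_nil, _root_.or_false, _root_.forall_eq_or_imp, _root_.Order.lt_two_iff, _root_.zero_le, _root_.Nat.ofNat_pos, _root_.forall_eq, _root_.and_self]) hcd hv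
    have hs5 : 5 ≤ p ^ j := five_le_pow hp5 hj.ne'
    have he0 := order_pos hpq
    have hn := nm_check (ds := [2, 6, 8, 10, 12, 18]) (M := 18) (by decide)
      (fun e n => n ≤ 6 ∧ Nat.totient e * n ≤ 6) (fun e => by simp) (by decide +kernel) _ he0
    have hw : p ^ wt p (orderOf (q₁ : ZMod p)) [2, 6, 8, 10, 12, 18] ≤ 5 :=
      (Nat.pow_le_pow_right hp.out.pos (wt_le _ _ (by simp only [_root_.List.mem_cons, _root_.List.not_mem_nil, _root_.or_false, _root_.forall_eq_or_imp, _root_.Order.lt_two_iff, _root_.zero_le, _root_.Nat.ofNat_pos, _root_.forall_eq, _root_.and_self]))).trans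
        (pow_v_le_of (a := 9) (b := 4) (c := 5) hp5 (by norm_num) (by norm_num))
    refine meet_of_num_sq hp5 hT hm (hb.trans (bound_le (by omega) hn.1 hn.2 hw)) ?_ hm0
    have := num_ineq (C := 625) (A := 28) (B := 24) (M := 22) (D := 256) (s₀ := 5) (b := 2) (by norm_num)
      (by norm_num) (by norm_num) (by norm_num) (by norm_num) hs5 hq2
    calc (5 * (p ^ j) ^ (6 + 1) * (q₁ + 1) ^ 6) ^ 4 = 625 * (p ^ j) ^ 28 * (q₁ + 1) ^ 24 := by ring
      _ ≤ 256 * q₁ ^ (22 * p ^ j) := this.le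
      _ = _ := by rw [← pow_mul, mul_comm (p ^ j) 22]

end Cfsg.Agent.H172.SI
end

-- part: H172/SINN
section
set_option linter.all false
open scoped Cfsg.Agent.FastGrp

/-!
helper172, for S5762: `N ∩ N ^ u = 1` for a regular unipotent element `u` (adjoint Chevalley groups).
-/

set_option autoImplicit false

namespace Cfsg.Agent.H172.SI

open Cfsg.Lie Cfsg.Agent.ChevalleyStructure Cfsg.Agent.ChevalleyStructure.Elts
  Cfsg.Agent.ChevalleyStructure.BruhatSplit Cfsg.Agent.ChevalleyStructure.RootWord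
  Cfsg.Agent.ChevalleyStructure.RootCombGood Cfsg.Agent.ChevalleyStructure.NPerm
open scoped Pointwise

universe u

variable {D : ChevalleyDatum} {F : Type u} [Field F]

theorem nG_conj_simple (hD : InList D) {i : ℕ} (hi : i < D.rank) {x : GL D.Idx F}
    (hx : x ∈ D.rootSubgroup F (D.simple i)) :
    nG hD (D.simple i) 1 * x * (nG hD (D.simple i) 1)⁻¹ ∈ D.negUnipotent F := by
  have G := RootComb.good_of_mem hD
  have h := acts_nG_simple (F := F) hD hi (D.simple i) (G.simple_lt hi)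
  have h1 := Subgroup.mem_map_of_mem (MulAut.conj (nG hD (D.simple i) (1 : F))).toMonoidHom hx
  rw [h] at h1
  have h2 : wact D [i] (D.simple i) = D.neg (D.simple i) := by
    rw [wact_cons, wact_nil, G.reflect_simple hi]
  rw [h2] at h1
  have h3 : D.IsNegRoot (D.neg (D.simple i)) := (isNegRoot_neg G (G.simple_lt hi)).2 (G.simple_pos hi)
  exact rootSubgroup_le_neg hD h3 h1

theorem simple_not_mem (hD : InList D) {i : ℕ} (hi : i < D.rank) {t : F}
    (h : xG hD (D.simple i) t ∈ Ui F D i) : t = 0 := by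
  have G := RootComb.good_of_mem hD
  have h1 := Ui_le i (nG_conj_Ui hD hi h)
  have h2 := nG_conj_simple hD hi (xG_mem_rootSubgroup (F := F) hD (D.simple i) t)
  have h3 := eq_one_of_pos_of_neg hD h1 h2
  have h4 : xG hD (D.simple i) t = 1 := by
    have := mul_inv_eq_iff_eq_mul.1 h3
    rw [one_mul] at this
    exact mul_left_cancel (this.trans (mul_one _).symm)
  exact (xG_eq_one_iff hD (G.simple_lt hi) t).1 h4

/-- A regular unipotent element. -/
theorem exists_regular (hD : InList D) (F : Type u) [Field F] :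
    ∃ u ∈ D.posUnipotent F, ∀ i < D.rank, u ∉ Ui F D i := by
  have G := RootComb.good_of_mem hD
  have key : ∀ k ≤ D.rank, ∃ u ∈ D.posUnipotent F, ∀ i < D.rank, (k ≤ i → u ∈ Ui F D i) ∧ (i < k → u ∉ Ui F D i) := by
    intro k
    induction k with
    | zero =>
      intro _
      exact ⟨1, Subgroup.one_mem _, fun i _ => ⟨fun _ => Subgroup.one_mem _, fun h => absurd h (Nat.not_lt_zero i)⟩⟩
    | succ k ih =>
      intro hk
      obtain ⟨u, hu, h⟩ := ih (by omega)
      have hkr : k < D.rank := by omega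
      have hx : xG hD (D.simple k) (1 : F) ∈ D.posUnipotent F := xG_mem_posUnipotent hD (G.simple_pos hkr) 1
      have hne : ∀ i < D.rank, i ≠ k → xG hD (D.simple k) (1 : F) ∈ Ui F D i := by
        intro i hi hik
        refine Subgroup.subset_closure ⟨D.simple k, 1, G.simple_pos hkr, ?_, coe_xG hD _ _⟩
        intro he
        exact hik (simple_inj G hkr hi he).symm
      refine ⟨u * xG hD (D.simple k) 1, Subgroup.mul_mem _ hu hx, fun i hi => ⟨fun hki => ?_, fun hik hmem => ?_⟩⟩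
      · exact Subgroup.mul_mem _ ((h i hi).1 (by omega)) (hne i hi (by omega))
      · rcases Nat.lt_or_ge i k with h1 | h1
        · exact (h i hi).2 h1 ((Subgroup.mul_mem_cancel_right _ (hne i hi (by omega))).1 hmem)
        · have h2 : i = k := by omega
          subst h2
          have h3 := (Subgroup.mul_mem_cancel_left _ ((h i hi).1 le_rfl)).1 hmem
          exact one_ne_zero (simple_not_mem hD hi h3)
  obtain ⟨u, hu, h⟩ := key D.rank le_rfl
  exact ⟨u, hu, fun i hi => (h i hi).2 hi⟩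

/-- If `n` maps `X_{p_i}` into `V` then `U ∩ n⁻¹ U n ≤ U_i`. -/
theorem mem_Ui_of_conj (hD : InList D) {n : GL D.Idx F} (hn : n ∈ D.monomialSubgroup F) {i : ℕ} (hi : i < D.rank)
    (hneg : (D.rootSubgroup F (D.simple i)).map (MulAut.conj n).toMonoidHom ≤ D.negUnipotent F)
    {a : GL D.Idx F} (ha : a ∈ D.posUnipotent F) (hna : n * a * n⁻¹ ∈ D.posUnipotent F) : a ∈ Ui F D i := by
  obtain ⟨v, hv, x, hx, rfl⟩ := exists_Ui_mul hD hi ha
  set m : GL D.Idx F := nG hD (D.simple i) 1 with hm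
  have hmN : m ∈ D.monomialSubgroup F := nG_simple_mem hD F hi
  have hn' : n * m⁻¹ ∈ D.monomialSubgroup F := Subgroup.mul_mem _ hn (Subgroup.inv_mem _ hmN)
  have hv' := nG_conj_Ui hD hi hv
  obtain ⟨a', ha', c', hc', hac, hna'⟩ := split hD hn' (Ui_le i hv')
  have hy : m * x * m⁻¹ ∈ D.negUnipotent F := nG_conj_simple hD hi hx
  have hxV : n * x * n⁻¹ ∈ D.negUnipotent F := by
    have := hneg (Subgroup.mem_map_of_mem _ hx)
    simpa [MulAut.conj_apply] using this
  have hcV := Um_conj_mem hc'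
  have e1 : n * (v * x) * n⁻¹ = (n * m⁻¹ * a' * (n * m⁻¹)⁻¹) * ((n * m⁻¹ * c' * (n * m⁻¹)⁻¹) * (n * x * n⁻¹)) := by
    have : m * v * m⁻¹ = a' * c' := hac
    have h2 : v = m⁻¹ * (a' * c') * m := by rw [← this]; group
    rw [h2]; group
  have hz1 : (n * m⁻¹ * c' * (n * m⁻¹)⁻¹) * (n * x * n⁻¹) ∈ D.posUnipotent F := by
    rw [e1] at hna
    exact (Subgroup.mul_mem_cancel_left _ hna').1 hna
  have hz := eq_one_of_pos_of_neg hD hz1 (Subgroup.mul_mem _ hcV hxV)
  have e2 : c' * (m * x * m⁻¹) = 1 := by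
    have : (n * m⁻¹ * c' * (n * m⁻¹)⁻¹) * (n * x * n⁻¹) = (n * m⁻¹) * (c' * (m * x * m⁻¹)) * (n * m⁻¹)⁻¹ := by group
    rw [this] at hz
    have h3 := mul_inv_eq_iff_eq_mul.1 hz
    rw [one_mul] at h3
    exact mul_left_cancel (h3.trans (mul_one _).symm)
  have hc1 : c' = 1 := by
    apply eq_one_of_pos_of_neg hD (Um_le _ hc')
    rw [eq_inv_of_mul_eq_one_left e2]
    exact Subgroup.inv_mem _ hy
  rw [hc1, one_mul] at e2
  have hx1 : x = 1 := by
    have := mul_inv_eq_iff_eq_mul.1 e2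
    rw [one_mul] at this
    exact mul_left_cancel (this.trans (mul_one _).symm)
  rw [hx1, mul_one]
  exact hv

/-- If `n ∈ N` maps no simple root subgroup into `V` then `n ∈ H`. -/
theorem mem_diagonal_of (hD : InList D) {n : GL D.Idx F} (hn : n ∈ D.monomialSubgroup F)
    (h : ∀ i < D.rank, ¬ (D.rootSubgroup F (D.simple i)).map (MulAut.conj n).toMonoidHom ≤ D.negUnipotent F) :
    n ∈ D.diagonalSubgroup F := by
  have G := RootComb.good_of_mem hD
  obtain ⟨w, hw, hact⟩ := exists_acts hD hn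
  have hpos : ∀ r, D.IsPosRoot r → D.IsPosRoot (wact D w r) := by
    intro r hr
    refine wact_pos_of_simple G hw (fun i hi => ?_) hr
    rcases pos_or_neg G (wact_lt G hw (G.simple_lt hi)) with h' | h'
    · exact h'
    · exact absurd (map_le_of_neg hD hact (G.simple_lt hi) h') (h i hi)
  have hU : D.posUnipotent F ≤ (D.posUnipotent F).comap (MulAut.conj n).toMonoidHom := by
    refine (posUnipotent_le_iff hD _).2 fun r hr t => ?_
    have h1 := Subgroup.mem_map_of_mem (MulAut.conj n).toMonoidHom (xG_mem_rootSubgroup (F := F) hD r t)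
    rw [hact r hr.1] at h1
    exact rootSubgroup_le_pos hD (hpos r hr) h1
  have hB : D.borelSubgroup F ≤ (D.borelSubgroup F).comap (MulAut.conj n).toMonoidHom := by
    refine sup_le ?_ ?_
    · intro u hu
      exact (le_sup_left : D.posUnipotent F ≤ D.borelSubgroup F) (hU hu)
    · intro t ht
      exact (le_sup_right : D.diagonalSubgroup F ≤ D.borelSubgroup F) (S1100.conj_mem_diagonal hD hn ht)
  obtain ⟨P, hPB, hPN, -⟩ := Cfsg.Agent.S1042.result (F := F) D hD
  have hnG : n ∈ D.group F := monomial_le_group hD F hn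
  have h1 : (⟨n, hnG⟩ : ↥(D.group F))⁻¹ ∈ P.B := by
    refine Cfsg.Agent.S0313.mem_of_conj_borel_le P P.B le_rfl _ fun b hb => ?_
    rw [hPB, Subgroup.mem_subgroupOf] at hb ⊢
    have := hB hb
    simpa [MulAut.conj_apply] using this
  have h2 := P.B.inv_mem h1
  rw [inv_inv, hPB, Subgroup.mem_subgroupOf] at h2
  rw [← (Cfsg.Agent.S1040.result (F := F) D hD).2]
  exact ⟨h2, hn⟩

/-- the torus normalises `U_i` -/
theorem torus_conj_Ui (hD : InList D) {t : GL D.Idx F} (ht : t ∈ D.diagonalSubgroup F) {i : ℕ} {v : GL D.Idx F}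
    (hv : v ∈ Ui F D i) : t * v * t⁻¹ ∈ Ui F D i := by
  have : Ui F D i ≤ (Ui F D i).comap (MulAut.conj t).toMonoidHom := by
    refine (Subgroup.closure_le _).2 ?_
    rintro x ⟨s, a, hs, hne, hx⟩
    have hx' : x = xG hD s a := Units.ext (hx.trans (coe_xG hD s a).symm)
    show t * x * t⁻¹ ∈ Ui F D i
    rw [hx', H190.conj_xG hD ht ⟨s, hs.1⟩ a]
    exact Subgroup.subset_closure ⟨s, _, hs, hne, coe_xG hD _ _⟩
  exact this hv

/-- a torus element centralising a regular unipotent element is trivial -/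
theorem torus_trivial (hD : InList D) {t : GL D.Idx F} (ht : t ∈ D.diagonalSubgroup F) {u : GL D.Idx F}
    (hu : u ∈ D.posUnipotent F) (hreg : ∀ i < D.rank, u ∉ Ui F D i) (hc : t * u * t⁻¹ = u) : t = 1 := by
  have G := RootComb.good_of_mem hD
  obtain ⟨c, hc0, hcm, hcx⟩ := H190.torus_form hD ht
  -- the simple roots
  have h1 : ∀ i < D.rank, ∏ k ∈ Finset.range D.rank, c k ^ (D.cartan k (D.simple i)) = 1 := by
    intro i hi
    obtain ⟨v, hv, x, hx, hvx⟩ := exists_Ui_mul hD hi hu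
    obtain ⟨s, rfl⟩ := (mem_rootSubgroup_iff hD (D.simple i) x).1 hx
    set η := ∏ k ∈ Finset.range D.rank, c k ^ (D.cartan k (D.simple i)) with hη
    have h2 : t * xG hD (D.simple i) s * t⁻¹ = xG hD (D.simple i) (η * s) := hcx _ (G.simple_lt hi) s
    have h3 : v⁻¹ * (t * v * t⁻¹) = xG hD (D.simple i) (s - η * s) := by
      have e : t * u * t⁻¹ = (t * v * t⁻¹) * (t * xG hD (D.simple i) s * t⁻¹) := by rw [hvx]; group
      rw [hc, hvx, h2] at e
      rw [sub_eq_add_neg, ← xG_add, ← xG_inv, eq_mul_inv_iff_mul_eq, mul_assoc, ← e]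
      group
    have h4 : xG hD (D.simple i) (s - η * s) ∈ Ui F D i := by
      rw [← h3]
      exact Subgroup.mul_mem _ (Subgroup.inv_mem _ hv) (torus_conj_Ui hD ht hv)
    have h5 := simple_not_mem hD hi h4
    have hs0 : s ≠ 0 := by
      rintro rfl
      apply hreg i hi
      rw [hvx, xG_zero, mul_one]
      exact hv
    have h6 : η * s = 1 * s := by rw [one_mul]; exact (sub_eq_zero.1 h5).symm
    exact mul_right_cancel₀ hs0 h6
  have h2 : ∀ r < D.nroots, ∏ k ∈ Finset.range D.rank, c k ^ (D.cartan k r) = 1 := by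
    refine root_induction G h1 fun i hi r hr hP => ?_
    have h3 : ∏ k ∈ Finset.range D.rank, c k ^ (D.cartan k (D.reflectRoot i r)) =
        (∏ k ∈ Finset.range D.rank, c k ^ (D.cartan k r)) *
          ((∏ k ∈ Finset.range D.rank, c k ^ (D.cartan k (D.simple i))) ^ (D.cartan i r))⁻¹ := by
      rw [← Finset.prod_zpow, ← Finset.prod_inv_distrib, ← Finset.prod_mul_distrib]
      refine Finset.prod_congr rfl fun k hk => ?_
      have hk' := Finset.mem_range.1 hk
      rw [G.cartan_reflect hi hr hk', zpow_sub₀ (hc0 k hk'), div_eq_mul_inv, mul_comm (D.cartan i r), zpow_mul]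
    rw [h3, hP, h1 i hi]
    simp
  refine H190.torus_ext hD ht (Subgroup.one_mem _) fun r => ?_
  have h3 : H190.ent t r = 1 := by
    rw [H190.ent_of_dmat hcm]
    exact h2 r r.2
  rw [h3]
  unfold H190.ent
  rw [Units.val_one, Matrix.one_apply_eq]

/-- **`N ∩ N ^ u = 1`** for a regular unipotent element `u`. -/
theorem monomial_inter (hD : InList D) {u : GL D.Idx F} (hu : u ∈ D.posUnipotent F)
    (hreg : ∀ i < D.rank, u ∉ Ui F D i) {n : GL D.Idx F} (hn : n ∈ D.monomialSubgroup F)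
    (hn' : u * n * u⁻¹ ∈ D.monomialSubgroup F) : n = 1 := by
  obtain ⟨n', hn'e⟩ : ∃ n', n' = u * n * u⁻¹ := ⟨_, rfl⟩
  rw [← hn'e] at hn'
  have huB : u ∈ D.borelSubgroup F := (le_sup_left : D.posUnipotent F ≤ _) hu
  obtain ⟨a, ha, c, hc, hac, hna⟩ := split hD hn' hu
  obtain ⟨-, huniq⟩ := Cfsg.Agent.S1100.result (F := F) D hD
  have haB : n' * a * n'⁻¹ ∈ D.borelSubgroup F := (le_sup_left : D.posUnipotent F ≤ _) hna
  have e1 : u * n * 1 = (n' * a * n'⁻¹) * n' * c := by
    calc u * n * 1 = (u * n * u⁻¹) * u := by group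
      _ = n' * (a * c) := by rw [← hn'e, ← hac]
      _ = _ := by group
  obtain ⟨hH, -⟩ := huniq u (n' * a * n'⁻¹) n n' 1 c huB haB hn hn' (Subgroup.one_mem _) hc e1
  set h := n⁻¹ * n' with hh
  have hconj : n' * h⁻¹ * n'⁻¹ ∈ D.diagonalSubgroup F := S1100.conj_mem_diagonal hD hn' (Subgroup.inv_mem _ hH)
  have e2 : (u * (n' * h⁻¹ * n'⁻¹)) * n' * 1 = (n' * a * n'⁻¹) * n' * c := by
    rw [← e1, hh]; group
  obtain ⟨-, hcons⟩ := huniq (u * (n' * h⁻¹ * n'⁻¹)) (n' * a * n'⁻¹) n' n' 1 c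
    (Subgroup.mul_mem _ huB ((le_sup_right : D.diagonalSubgroup F ≤ _) hconj)) haB hn' hn' (Subgroup.one_mem _) hc e2
  obtain ⟨e3, e4⟩ := hcons rfl
  have hua : u = a := by rw [hac, ← e4, mul_one]
  have e5 : n' * h⁻¹ * n'⁻¹ ∈ D.posUnipotent F := by
    have : n' * h⁻¹ * n'⁻¹ = u⁻¹ * (n' * a * n'⁻¹) := by rw [← e3]; group
    rw [this]
    exact Subgroup.mul_mem _ (Subgroup.inv_mem _ hu) hna
  have e6 : n' * h⁻¹ * n'⁻¹ = 1 := by
    have h1 : n' * h⁻¹ * n'⁻¹ ∈ D.posUnipotent F ⊓ D.diagonalSubgroup F := ⟨e5, hconj⟩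
    rw [(Cfsg.Agent.S1036.result (F := F) D hD).2] at h1
    exact Subgroup.mem_bot.1 h1
  have e7 : h = 1 := by
    have := mul_inv_eq_iff_eq_mul.1 e6
    rw [one_mul] at this
    have h8 : h⁻¹ = 1 := mul_left_cancel (this.trans (mul_one _).symm)
    exact inv_eq_one.1 h8
  have e8 : n' = n := by
    have : n' = n * h := by rw [hh]; group
    rw [this, e7, mul_one]
  rw [e8] at hn'e hna e3
  have hcomm : n * u * n⁻¹ = u := by
    rw [← hua] at e3
    rw [← e3, e7]
    group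
  have hnH : n ∈ D.diagonalSubgroup F := by
    refine mem_diagonal_of hD hn fun i hi hneg => hreg i hi ?_
    exact mem_Ui_of_conj hD hn hi hneg hu (by rw [hcomm]; exact hu)
  exact torus_trivial hD hnH hu hreg hcomm

end Cfsg.Agent.H172.SI
end

-- part: H172/SIE6
section
set_option linter.all false
open scoped Cfsg.Agent.FastGrp

/-!
helper172, for S5762: `E₆` in cross characteristic.
-/

set_option autoImplicit false

namespace Cfsg.Agent.H172.SI

open Cfsg.Lie Cfsg.Agent.H903.SylMeet Cfsg.Agent.H190 Cfsg.Agent.ChevalleyStructure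
  Cfsg.Agent.ChevalleyStructure.Elts

variable {p : ℕ} [hp : Fact p.Prime]

theorem card_NG {D : ChevalleyDatum} (hD : InList D) {F : Type} [Field F] [Fintype F] {W : Type*} [Group W]
    (φ : ↥(D.monomialSubgroup F) →* W) (hφ : Function.Surjective φ)
    (hker : φ.ker = (D.diagonalSubgroup F).subgroupOf (D.monomialSubgroup F)) :
    Nat.card (NG D F) = Nat.card ↥(D.diagonalSubgroup F) * Nat.card W := by
  have h1 : Nat.card (NG D F) = Nat.card ↥(D.monomialSubgroup F) :=
    Nat.card_congr (Subgroup.subgroupOfEquivOfLe (monomial_le_group hD F)).toEquiv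
  have h2 : Nat.card ↥((D.diagonalSubgroup F).subgroupOf (D.monomialSubgroup F)) = Nat.card ↥(D.diagonalSubgroup F) :=
    Nat.card_congr (Subgroup.subgroupOfEquivOfLe (diagonal_le_monomial D F)).toEquiv
  rw [h1, Subgroup.card_eq_card_quotient_mul_card_subgroup φ.ker, hker, h2, ← hker,
    Nat.card_congr (QuotientGroup.quotientKerEquivOfSurjective φ hφ).toEquiv, mul_comm]

theorem order_eq_one {q : ℕ} (hq2 : 2 ≤ q) (h : p ∣ q - 1) : orderOf (q : ZMod p) = 1 := by
  have h1 := (dvd_iff_order (p := p) (q := q) (k := 1) (by omega)).1 (by rwa [pow_one])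
  exact Nat.dvd_one.1 h1

theorem nm_one (ds : List ℕ) : nm 1 ds = ds.length := by
  unfold nm
  rw [List.countP_eq_length]
  intro a _
  simp

theorem wt_one : ∀ ds : List ℕ, (∀ k ∈ ds, 0 < k) → wt p 1 ds = padicValNat p ds.prod := by
  intro ds
  induction ds with
  | nil => intro _; simp [wt]
  | cons k ds ih =>
    intro h
    have hds : ∀ k ∈ ds, 0 < k := fun k hk => h k (by simp [hk])
    have h0 : ds.prod ≠ 0 := by
      refine List.prod_ne_zero ?_
      intro h0
      exact lt_irrefl 0 (hds 0 h0)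
    rw [wt, List.prod_cons, padicValNat.mul (h k (by simp)).ne' h0, ih hds]
    simp

/-- **The monomial subgroup has index prime to `p`** if `p ∣ q - 1`. -/
theorem not_dvd_index_NG {D : ChevalleyDatum} {d : ℕ → ℕ} {N : ℕ} {ds : List ℕ} (h : Deg D d N ds)
    (hds : ∀ k ∈ ds, 0 < k) (hp2 : Odd p) {F : Type} [Field F] [Fintype F] (hd : ¬ p ∣ d (Fintype.card F))
    (hq : p ∣ Fintype.card F - 1) {W : Type*} [Group W]
    (φ : ↥(D.monomialSubgroup F) →* W) (hφ : Function.Surjective φ)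
    (hker : φ.ker = (D.diagonalSubgroup F).subgroupOf (D.monomialSubgroup F)) (hW : Nat.card W = ds.prod) :
    ¬ p ∣ (NG D F).index := by
  have : Finite (GL D.Idx F) := inferInstance
  have hq2 : 2 ≤ Fintype.card F := Fintype.one_lt_card
  have hpq : ¬ p ∣ Fintype.card F := by
    intro h1
    have h2 := (Nat.dvd_sub h1 hq)
    have h3 : Fintype.card F - (Fintype.card F - 1) = 1 := by omega
    rw [h3] at h2
    exact hp.out.one_lt.ne' (Nat.dvd_one.1 h2)
  have hG := h.card (F := F)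
  have hT := h.tor (F := F)
  have hN := card_NG h.mem φ hφ hker
  set q := Fintype.card F with hqdef
  have hd0 : d q ≠ 0 := h.d0 q
  have hpr : pr q ds ≠ 0 := pr_ne_zero hq2 hds
  have hvG : padicValNat p (Nat.card ↥(D.group F)) = padicValNat p (q - 1) * ds.length + padicValNat p ds.prod := by
    have h1 : padicValNat p (d q * Nat.card ↥(D.group F)) = padicValNat p (q ^ N * pr q ds) := by
      rw [hG]; rfl
    have h36 : padicValNat p (q ^ N) = 0 :=
      padicValNat.eq_zero_of_not_dvd fun h => hpq (hp.out.dvd_of_dvd_pow h)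
    rw [padicValNat.mul hd0 Nat.card_pos.ne', padicValNat.mul (pow_ne_zero _ (by omega)) hpr,
      padicValNat.eq_zero_of_not_dvd hd, h36, zero_add, zero_add] at h1
    rw [h1]
    have h2 := v_pr (p := p) hp2 (q := q) (j := 0) hpq hq2 ds hds
    rw [pow_zero, pow_one, order_eq_one hq2 hq, pow_one, add_zero, nm_one, wt_one ds hds] at h2
    exact h2
  have hvT : padicValNat p (Nat.card ↥(D.diagonalSubgroup F)) = padicValNat p (q - 1) * ds.length := by
    have h1 : padicValNat p (d q * Nat.card ↥(D.diagonalSubgroup F)) = padicValNat p ((q - 1) ^ ds.length) := by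
      rw [hT]
    have hq1 : q - 1 ≠ 0 := by omega
    rw [padicValNat.mul hd0 Nat.card_pos.ne', padicValNat.eq_zero_of_not_dvd hd, zero_add,
      padicValNat.pow] at h1
    rw [h1, mul_comm]
  have hW0 : Nat.card W ≠ 0 := by
    rw [hW]
    refine List.prod_ne_zero ?_
    intro h0
    exact lt_irrefl 0 (hds 0 h0)
  have hvN : padicValNat p (Nat.card (NG D F)) = padicValNat p (Nat.card ↥(D.group F)) := by
    rw [hN, padicValNat.mul Nat.card_pos.ne' hW0, hvT, hW, hvG]
  intro hdvd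
  have h1 := Subgroup.card_mul_index (NG D F)
  have hi0 : (NG D F).index ≠ 0 := Subgroup.FiniteIndex.index_ne_zero
  rw [← h1, padicValNat.mul Nat.card_pos.ne' hi0] at hvN
  have h2 := one_le_padicValNat_of_dvd hi0 hdvd
  omega

/-- **The case `p ∣ q - 1`, `p ∤ |Out|`** for the adjoint Chevalley groups. -/
theorem meet_of_index_NG {D : ChevalleyDatum} (hD : InList D) {F : Type} [Field F] [Fintype F]
    [IsSimpleGroup ↥(D.group F)] (hT : ¬ IsMulCommutative ↥(D.group F))
    (ho : ¬ p ∣ Nat.card (Cfsg.Out ↥(D.group F))) (hi : ¬ p ∣ (NG D F).index) : Meet p ↥(D.group F) := by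
  have : Finite (GL D.Idx F) := inferInstance
  obtain ⟨S⟩ : Nonempty (Sylow p (NG D F)) := inferInstance
  have hSp : IsPGroup p ((S : Subgroup (NG D F)).map (NG D F).subtype) := S.isPGroup'.map _
  have hSi : ¬ p ∣ ((S : Subgroup (NG D F)).map (NG D F).subtype).index := by
    rw [Subgroup.index_map_subtype]
    intro h
    rcases (Nat.Prime.dvd_mul hp.out).1 h with h1 | h1
    · exact S.not_dvd_index h1
    · exact hi h1
  obtain ⟨u, hu, hreg⟩ := exists_regular hD F
  have huG : u ∈ D.group F :=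
    (Cfsg.Agent.S1043.result (F := F) D hD).1 ((le_sup_left : D.posUnipotent F ≤ D.borelSubgroup F) hu)
  refine meet_of_inner hT ho _ hSp hSi ⟨⟨u, huG⟩, ?_⟩
  rintro _ ⟨n, -, rfl⟩ hn'
  obtain ⟨n', -, hn'e⟩ := hn'
  have h1 : ((n' : ↥(D.group F)) : GL D.Idx F) ∈ D.monomialSubgroup F := n'.2
  have h2 : ((n : ↥(D.group F)) : GL D.Idx F) ∈ D.monomialSubgroup F := n.2
  have h3 : ((n' : ↥(D.group F)) : GL D.Idx F) = u * ((n : ↥(D.group F)) : GL D.Idx F) * u⁻¹ :=
    congrArg Subtype.val hn'e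
  rw [h3] at h1
  exact Subtype.ext (monomial_inter hD hu hreg h2 h1)

theorem cross_E6 {F : Type} [Field F] [Fintype F] (hp5 : 5 ≤ p)
    (hpF : ¬ p ∣ Fintype.card F) : Meet p ↥(chevE6.group F) := by
  refine cross_E6_of hp5 hpF fun h5 hq ho => ?_
  have : Finite (GL chevE6.Idx F) := inferInstance
  obtain ⟨hs, hT⟩ := Cfsg.Agent.S1054.result (F := F) chevE6 (by simp)
  obtain ⟨φ, hφ, hker, -⟩ := Cfsg.Agent.S1039.result (F := F) (chevE6, ⟨6, CoxeterMatrix.E₆⟩) (by simp)
  have hW := Cfsg.Agent.S1093.result (⟨6, CoxeterMatrix.E₆⟩, 51840) (by simp)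
  refine meet_of_index_NG deg_E6.mem hT ho ?_
  refine not_dvd_index_NG deg_E6 (by simp) (odd_of_five hp5) ?_ (h5 ▸ hq) φ hφ hker (by rw [hW]; norm_num)
  intro h1
  have := Nat.le_of_dvd (by norm_num) (h1.trans (Nat.gcd_dvd_left _ _))
  omega

end Cfsg.Agent.H172.SI
end
end
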